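import Cfsg.Agent.BZ.X.Defs
import Cfsg.Agent.MK.C3L.OGS
import Cfsg.Agent.S0144

/-!
# BZ, the local data of `Ω₇(3)` at the prime two (helper25)

`rb : RB 2 4 H8`.  A local datum of order at least `16` has a central involution with a soluble centraliser.
-/

set_option autoImplicit false
set_option maxRecDepth 100000
set_option synthInstance.maxSize 4000
set_option linter.unusedSectionVars false

namespace Cfsg.Agent.BZ.X.O7

open Cfsg Subgroup Cfsg.Agent.BZ.T Cfsg.Agent.BHZ.Spor Cfsg.Agent.MK.C3L.O Cfsg.Agent.TAB.Eng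
open Cfsg.Agent.H64.O73Perm hiding ev_eq_one
open Cfsg.Agent.Fischer.Derived Cfsg.Agent.Fischer.O73 Cfsg.Agent.Fischer.Y322 Cfsg.Agent.Fischer.Y322Iso
open Cfsg.Agent.MK.S7.O7 (fin8 selfN_H8)

/-- a conjugate of `t` is central in a Sylow subgroup of `C(g)` -/
theorem cen_conj {S : Type} [Group S] [Finite S] {D : Subgroup S} {g u t : S} {a : ℕ} (hp : IsPGroup 2 D)
    (hgD : ∀ d ∈ D, Commute d g) (hmax : ∀ P : Subgroup S, IsPGroup 2 P → D ≤ P → (∀ k ∈ P, Commute k g) → P ≤ D)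
    (hg : g ∈ zpowers u) (ht : t ∈ zpowers u) (h2 : t ^ 2 = 1) (h1 : 2 ^ a ∣ Nat.card (centralizer ({u} : Set S)))
    (h3 : ¬ 2 ^ (a + 1) ∣ Nat.card (centralizer ({g} : Set S))) :
    ∃ s, IsConj t s ∧ s ∈ D ∧ ∀ d ∈ D, Commute s d := by
  have : Fact (Nat.Prime 2) := ⟨Nat.prime_two⟩
  have hu : ∀ x ∈ centralizer ({u} : Set S), ∀ y ∈ zpowers u, Commute y x := fun x hx y hy =>
    commute_of_mem_zpowers (mem_centralizer_singleton_iff.1 hx).symm hy
  have hle : centralizer ({u} : Set S) ≤ centralizer {g} := fun x hx =>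
    mem_centralizer_singleton_iff.2 (hu x hx g hg).symm
  have htu : t ∈ centralizer ({u} : Set S) :=
    mem_centralizer_singleton_iff.2 (commute_of_mem_zpowers (Commute.refl u) ht)
  obtain ⟨Q, hQ⟩ := (isPGroup_zpowers (p := 2) (x := (⟨t, htu⟩ : centralizer ({u} : Set S))) (k := 1)
    (Subtype.ext h2)).exists_le_sylow
  obtain ⟨P, hP⟩ := (Q.isPGroup'.map (inclusion hle)).exists_le_sylow
  obtain ⟨R, hR⟩ := (hp.comap_subtype (K := centralizer ({g} : Set S))).exists_le_sylow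
  obtain ⟨c, hc⟩ := MulAction.exists_smul_eq (centralizer ({g} : Set S)) P R
  have h4 : (Q : Subgroup _).map (inclusion hle) = P := by
    refine eq_of_le_of_card_ge hP ?_
    rw [card_map_of_injective (inclusion_injective hle)]
    obtain ⟨b, hb⟩ := IsPGroup.iff_card.1 P.isPGroup'
    have h5 : b ≤ a := by
      by_contra h5
      exact h3 ((pow_dvd_pow 2 (show a + 1 ≤ b by omega)).trans (hb ▸ card_subgroup_dvd_card P.toSubgroup))
    exact hb.trans_le ((Nat.pow_le_pow_right two_pos h5).trans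
      (Nat.le_of_dvd Nat.card_pos (Q.pow_dvd_card_of_pow_dvd_card h1)))
  have h5 : ∀ q ∈ (P : Subgroup _), c * q * c⁻¹ ∈ (R : Subgroup _) := fun q hq => by
    rw [← hc, Sylow.coe_subgroup_smul]
    exact smul_mem_pointwise_smul q (MulAut.conj c) _ hq
  have h6 := hmax _ (R.isPGroup'.map (Subgroup.subtype _))
    (fun d hd => ⟨⟨d, mem_centralizer_singleton_iff.2 (hgD d hd)⟩, hR hd, rfl⟩) (by
      rintro _ ⟨k, -, rfl⟩
      exact mem_centralizer_singleton_iff.1 k.2)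
  refine ⟨c * t * c⁻¹, isConj_iff.2 ⟨c, rfl⟩,
    h6 ⟨_, h5 _ (hP ⟨_, hQ (mem_zpowers _), rfl⟩), rfl⟩, fun d hd => ?_⟩
  have h7 := hR (show (⟨d, mem_centralizer_singleton_iff.2 (hgD d hd)⟩ : centralizer ({g} : Set S)) ∈ _ from hd)
  rw [← hc, Sylow.coe_subgroup_smul, ← h4] at h7
  obtain ⟨_, ⟨q, -, rfl⟩, h8⟩ := h7
  have h9 : d = c * q * (c : S)⁻¹ := (congrArg Subtype.val h8).symm
  rw [h9]
  exact ((hu q q.2 t ht).map (MulAut.conj (c : S)) :)

/-- the number of the preimages of the type `t` -/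
def nb (r : Rp) (t : ℕ) : ℕ := ((Finset.range 3).filter fun j => r.t.getD j 0 = t).card

theorem ty_w {f : List Rp × ℕ} (hf : f ∈ fam) {r : Rp} (hr : r ∈ f.1) {j : ℕ} (hj : j < 3) (h : r.t.getD j 0 < 81) :
    td.ty (zz ^ j * ev y8 r.w) = r.t.getD j 0 :=
  (td_iff _ _ h).2 (okT_spec okO (okT_fam f hf r hr) hj)

/-- the elements of a type lie over the classes of the family -/
theorem lie {f : List Rp × ℕ} (hf : f ∈ fam) {t k : ℕ} (ht : t < 81) (hk : ∀ r ∈ f.1, k ≤ nb r t)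
    (hc : dat.cnt t ≤ k * f.2) : (∀ x, td.ty x = t → ∃ w ∈ f.1.map Rp.w, IsConj (ev x8 w) (pi x)) ∧
      k * Set.ncard {g : H8 | ∃ w ∈ f.1.map Rp.w, IsConj (ev x8 w) g} ≤ dat.cnt t := by
  classical
  have := fin8
  have := Fintype.ofFinite Trip
  have := Fintype.ofFinite H8
  have h0 := td_mass.2 t ht
  rw [Nat.card_eq_fintype_card, Fintype.card_subtype] at h0
  have h1 : (Finset.univ.filter fun x => td.ty x = t ∧ ∃ w ∈ f.1.map Rp.w, IsConj (ev x8 w) (pi x)) ⊆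
      Finset.univ.filter fun x => td.ty x = t := fun x hx =>
    Finset.mem_filter.2 ⟨Finset.mem_univ _, (Finset.mem_filter.1 hx).2.1⟩
  have h2 : k * Set.ncard {g : H8 | ∃ w ∈ f.1.map Rp.w, IsConj (ev x8 w) g} ≤
      (Finset.univ.filter fun x => td.ty x = t ∧ ∃ w ∈ f.1.map Rp.w, IsConj (ev x8 w) (pi x)).card := by
    rw [Set.ncard_eq_toFinset_card']
    refine Finset.mul_card_image_le_card_of_maps_to (f := pi) (fun x hx => ?_) k fun g hg => ?_
    · exact Set.mem_toFinset.2 (Finset.mem_filter.1 hx).2.2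
    obtain ⟨w, h1, h2⟩ := Set.mem_toFinset.1 hg
    obtain ⟨r, hr, rfl⟩ := List.mem_map.1 h1
    obtain ⟨c, h3⟩ := isConj_iff.1 h2
    obtain ⟨c, rfl⟩ := ext_pi.surj c
    refine (hk r hr).trans (Finset.card_le_card_of_injOn (fun j => c * (zz ^ j * ev y8 r.w) * c⁻¹) (fun j hj => ?_)
      fun i hi j hj e => ?_)
    · obtain ⟨h4, h5⟩ := Finset.mem_filter.1 hj
      have h6 : pi (c * (zz ^ j * ev y8 r.w) * c⁻¹) = g := by
        rw [map_mul, map_mul, map_mul, map_pow, map_inv, pi_zz, one_pow, one_mul, pi_ev, h3]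
      exact Finset.mem_filter.2 ⟨Finset.mem_filter.2 ⟨Finset.mem_univ _, (td.conj _ c).trans
        ((ty_w hf hr (Finset.mem_range.1 h4) (h5 ▸ ht)).trans h5), _, h1, h6 ▸ h2⟩, h6⟩
    · exact pow_injOn_Iio_orderOf (zz_ord ▸ Finset.mem_range.1 (Finset.mem_filter.1 hi).1)
        (zz_ord ▸ Finset.mem_range.1 (Finset.mem_filter.1 hj).1) (mul_right_cancel (mul_left_cancel (mul_right_cancel e)))
  have h3 := Finset.eq_of_subset_of_card_le h1
    (h0.trans_le (hc.trans ((Nat.mul_le_mul_left k (big_fam f hf)).trans h2)))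
  exact ⟨fun x hx => (Finset.mem_filter.1 (h3.ge (Finset.mem_filter.2 ⟨Finset.mem_univ x, hx⟩))).2.2,
    h2.trans ((Finset.card_le_card h1).trans_eq h0)⟩

/-- the certificate for a type which lies over one class -/
def Sg (t : ℕ) (w : List (Fin 8)) (c : ℕ) : Prop :=
  t < 81 ∧ ∃ f ∈ fam, f.1.map Rp.w = [w] ∧ f.2 * c = 4585351680 ∧ ∃ k < 4, 0 < k ∧ (∀ r ∈ f.1, k ≤ nb r t) ∧
    dat.cnt t = k * f.2

theorem Sg.spec {t c : ℕ} {w : List (Fin 8)} (h : Sg t w c) {x : Trip} (hx : td.ty x = t) :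
    IsConj (ev x8 w) (pi x) ∧ Nat.card (centralizer ({pi x} : Set H8)) = c := by
  have := fin8
  obtain ⟨ht, f, hf, h1, h2, k, -, h3, h4, h5⟩ := h
  obtain ⟨h6, h7⟩ := lie hf ht h4 h5.le
  have h8 := big_fam f hf
  rw [Big] at h8
  rw [h1] at h6 h7 h8
  obtain ⟨w, h9, h10⟩ := h6 x hx
  obtain rfl := List.mem_singleton.1 h9
  have h11 := le_antisymm (Nat.le_of_mul_le_mul_left (h5 ▸ h7) h3) h8
  have h12 := card_class (pi x)
  have h13 : Nat.card {g : H8 // IsConj (pi x) g} = Set.ncard {g : H8 | ∃ v ∈ [w], IsConj (ev x8 v) g} :=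
    congrArg Set.ncard (Set.ext fun g =>
      ⟨fun e => ⟨w, h9, h10.trans e⟩, fun ⟨_, e, e'⟩ => h10.symm.trans (List.mem_singleton.1 e ▸ e')⟩)
  rw [card_H8, ← h2, h13, h11] at h12
  refine ⟨h10, Nat.eq_of_mul_eq_mul_left (Nat.pos_of_ne_zero fun e => ?_) h12⟩
  rw [e, zero_mul] at h2
  cases h2

theorem triv_iff {w : List (Fin 8)} : ev x8 w = 1 ↔ trivW w = true := by
  refine ⟨fun h => List.all_eq_true.2 fun x _ => decide_eq_true ?_, fun h => ?_⟩
  · have h1 := mat_ev w x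
    rw [← toO_ev, h, map_one, mat_one, Matrix.one_mulVec] at h1
    exact (congrArg ofFun h1).symm
  · refine injective_of_ne toO ⟨x8 0, fun e => ?_⟩ ((toO_ev w).trans ((ev_eq_one h).trans (map_one toO).symm))
    have h1 := mat_ev [0] ⟨1, 0, 0, 0, 0, 0, 0⟩
    rw [ev_cons, ev_nil, mul_one, ← toO_x8, e, mat_one, Matrix.one_mulVec] at h1
    exact absurd (congrArg ofFun h1) (by decide +kernel)

/-- elements of order six and elements which commute with their cubes -/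
def ws : List (List (Fin 8) × List (Fin 8)) :=
  [([0, 6, 1, 7, 2], [2]), ([1, 6, 2, 3], [0, 1, 2, 3, 6, 2, 1, 0]), ([0, 6, 7, 1, 3, 2, 0, 6, 7, 1, 3, 2], [1, 0, 7, 6]),
    ([5, 0, 6, 2, 1, 7], [1, 2, 1]), ([1, 4, 2, 0, 7, 5, 6], [1, 2, 1]),
    ([6, 7, 2, 4, 3, 1, 6, 7, 2, 4, 3, 1], [4, 3, 6, 7]), ([1, 0, 2, 4, 3, 6, 1, 0, 2, 4, 3, 6], [0, 3, 4, 1]),
    ([2, 3, 7, 6, 4], [2]), ([2, 3, 0, 1, 4], [2]), ([6, 0, 3], [])]

theorem ws_chk : ∀ p ∈ ws, trivW (rep 2 p.1) = true ∨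
    trivW (p.2 ++ rep 3 p.1 ++ p.2.reverse ++ (rep 3 p.1).reverse) = true ∧
    trivW ((rep 2 p.1).reverse ++ (p.2 ++ rep 2 p.1 ++ p.2.reverse)) = false ∧
    trivW (rep 4 ((rep 2 p.1).reverse ++ (p.2 ++ rep 2 p.1 ++ p.2.reverse))) = true := by decide +kernel

theorem ws_fam : ∀ t < 81, dat.pwf t 9 = 3 → dat.ord t ∣ 18 → ∃ f ∈ fam, ∃ k < 4, (∀ r ∈ f.1, k ≤ nb r t) ∧
    dat.cnt t ≤ k * f.2 ∧ ∀ w ∈ f.1.map Rp.w, w ∈ ws.map Prod.fst := by decide +kernel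

/-- **the involutions with a soluble centraliser** -/
theorem constr {x : Trip} (hx : td.ty x = 3) : Constr 2 (pi x) := by
  have := fin8
  have : Fact (Nat.Prime 2) := ⟨Nat.prime_two⟩
  have : Fact (Nat.Prime 3) := ⟨Nat.prime_three⟩
  have h1 := ((by unfold Sg; decide +kernel : Sg 3 [6, 0, 3] (2 ^ 9 * 3 ^ 3)).spec hx).2
  have := S0144.result 2 3 9 3 Nat.prime_two Nat.prime_three h1
  have h2 : x ^ 2 = 1 := orderOf_dvd_iff_pow_eq_one.1 (by rw [td.ord, hx]; decide)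
  have h3 : pi x ^ 2 = 1 := by rw [← map_pow, h2, map_one]
  refine Constr.of_centric ⟨1, h3⟩ _ (Lib.Cores.pCore_normal 2) (Lib.Cores.pCore_isPGroup 2)
    (Lib.HallHigman.centralizer_pCore_le_of_solvable 2 ?_)
  by_contra h0
  have hN := Lib.Cores.pPrimeCore_normal (G := centralizer ({pi x} : Set H8)) 2
  have hco := Lib.Cores.pPrimeCore_coprime (G := centralizer ({pi x} : Set H8)) 2
  generalize pPrimeCore 2 (centralizer ({pi x} : Set H8)) = N at h0 hN hco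
  have h4 : Nat.card N ∣ 3 ^ 3 := (hco.pow_right 9).dvd_of_dvd_mul_left (h1 ▸ card_subgroup_dvd_card N)
  obtain ⟨s, hs⟩ := exists_prime_orderOf_dvd_card' (G := N) 3 (by
    obtain ⟨i, -, e⟩ := (Nat.dvd_prime_pow Nat.prime_three).1 h4
    rcases i with _ | i
    · exact absurd (card_eq_one.1 e) h0
    · exact e ▸ dvd_pow_self 3 i.succ_ne_zero)
  obtain ⟨⟨s, hsC⟩, hsN⟩ := s
  replace hs : orderOf s = 3 := by rw [← hs, ← orderOf_coe, ← orderOf_coe]
  obtain ⟨s, rfl⟩ := ext_pi.surj s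
  have h5 : Commute s x := ext_pi.good_of_pow (n := 2) (by decide) h2 s (mem_centralizer_singleton_iff.1 hsC)
  have h6 : pi s ^ 3 = 1 := hs ▸ pow_orderOf_eq_one _
  have h7 : s ^ 9 = 1 := (pow_mul s 3 3).trans (ext_pi.cube (ext_pi.mem_iff.2 ((map_pow pi s 3).trans h6)))
  have h8 : (s * x) ^ 9 = x := by
    rw [h5.mul_pow, h7, one_mul, show 9 = 2 * 4 + 1 from rfl, pow_succ, pow_mul, h2, one_pow, one_mul]
  obtain ⟨f, hf, k, -, h9, h10, h11⟩ := ws_fam _ (td.lt (s * x)) (by rw [← td.pow, h8, hx]) (by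
    rw [← td.ord, orderOf_dvd_iff_pow_eq_one, show 18 = 9 * 2 from rfl, pow_mul, h8, h2])
  obtain ⟨w, h12, h13⟩ := (lie hf (td.lt _) h9 h10).1 _ rfl
  obtain ⟨p, h14, rfl⟩ := List.mem_map.1 (h11 w h12)
  obtain ⟨h, h15⟩ := isConj_iff.1 h13
  have h16 : h * ev x8 p.1 ^ 2 * h⁻¹ = pi s ^ 2 := by
    rw [← conj_pow, h15, map_mul, (h5.map pi).mul_pow, h3, mul_one]
  have h17 : h * ev x8 p.1 ^ 3 * h⁻¹ = pi x := by
    rw [← conj_pow, h15, map_mul, (h5.map pi).mul_pow, h6, one_mul, pow_succ, h3, one_mul]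
  rcases ws_chk p h14 with e | ⟨e1, e2, e3⟩
  · rw [← triv_iff, ev_rep] at e
    rw [e, mul_one, mul_inv_cancel] at h16
    exact absurd (hs ▸ orderOf_dvd_of_pow_eq_one h16.symm) (by decide)
  rw [← triv_iff, ev_append, ev_append, ev_append, ev_reverse x8_liftable, ev_reverse x8_liftable, ev_rep,
    mul_inv_eq_one, mul_inv_eq_iff_eq_mul] at e1
  rw [← triv_iff, ev_rep] at e3
  rw [← Bool.not_eq_true, ← triv_iff] at e2
  rw [ev_append, ev_append, ev_append, ev_reverse x8_liftable, ev_reverse x8_liftable, ev_rep] at e2 e3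
  have h18 : h * ev x8 p.2 * h⁻¹ ∈ centralizer ({pi x} : Set H8) := mem_centralizer_singleton_iff.2 (by
    rw [← h17, conj_mul, conj_mul, e1])
  have h19 := N.mul_mem (N.inv_mem (N.pow_mem hsN 2)) (hN.conj_mem _ (N.pow_mem hsN 2) ⟨_, h18⟩)
  have h20 := congrArg (fun y : N => ((y : centralizer ({pi x} : Set H8)) : H8))
    (orderOf_dvd_iff_pow_eq_one.1 ((orderOf_dvd_natCard (⟨_, h19⟩ : N)).trans h4))
  replace h20 : ((pi s ^ 2)⁻¹ * (h * ev x8 p.2 * h⁻¹ * pi s ^ 2 * (h * ev x8 p.2 * h⁻¹)⁻¹)) ^ 3 ^ 3 = 1 := h20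
  rw [← h16, conj_inv, conj_inv, conj_mul, conj_mul, conj_mul, conj_pow, conj_eq_one_iff] at h20
  exact e2 (pow_eq_one_iff_of_coprime (by decide) |>.1 ⟨h20, e3⟩)

theorem sing : ∀ t ∈ [35, 15, 64, 38, 73, 41, 42, 43], ∃ f ∈ fam, ∃ r ∈ f.1,
    Sg t r.w (4585351680 / f.2) ∧ ¬ 2 ^ 4 ∣ 4585351680 / f.2 := by
  unfold Sg
  decide +kernel

theorem cas : ∀ t < 81, dat.ord t % 4 = 2 → dat.pwf t (dat.ord t / 2) = 3 ∨ t = 35 ∨
    dat.pwf t 2 ∈ [15, 64, 38, 73, 41, 42, 43] ∨ dat.pwf t 2 ∈ [0, 4] ∨ dat.pwf t 2 ∈ [5, 6, 7, 8] := by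
  decide +kernel

/-- the elements of order three with a large centraliser -/
theorem thr : ∀ t ∈ [5, 6, 7, 8], ∃ s ∈ [31, 30, 27], ∃ f ∈ fam, ∃ r ∈ f.1, Sg t r.w (4585351680 / f.2) ∧
    Sg (dat.pwf s 2) r.w (4585351680 / f.2) ∧ ∃ e ∈ fam, ∃ q ∈ e.1, Sg s q.w (4585351680 / e.2) ∧ 0 < dat.cnt s ∧
    dat.pwf s 3 = 3 ∧ ∃ a < 7, ¬ 2 ^ (a + 1) ∣ 4585351680 / f.2 ∧ 2 ^ a ∣ 4585351680 / e.2 := by
  unfold Sg
  decide +kernel

/-- **the local data of order at least sixteen** -/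
theorem rb : RB 2 4 H8 := fun D hD h16 => by
  have := fin8
  have : Fact (Nat.Prime 2) := ⟨Nat.prime_two⟩
  obtain ⟨y, hy, hy2, hyD⟩ := exists_central hD.pg (N := D) (fun e => by
    rw [e, card_bot] at h16
    exact absurd h16 (by decide)) le_rfl fun d hd u hu => D.mul_mem (D.mul_mem hd hu) (D.inv_mem hd)
  obtain ⟨y, rfl, h1⟩ := ext_pi.exists_lift y (n := 2) (by decide) (hy2 ▸ pow_orderOf_eq_one y)
  by_cases h2 : td.ty y = 3
  · exact hD.rt_of_constr hy hyD (constr h2)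
  obtain ⟨g, hg, hgD, hmax⟩ := hD.syl
  obtain ⟨g, rfl⟩ := ext_pi.surj g
  have h3 : Commute g y := ext_pi.good_of_pow (n := 2) (by decide) h1 g (hgD _ hy).symm
  have h4 : ¬ 2 ∣ orderOf g := fun e => by
    have h4 : g ^ (orderOf (pi g) * 3) = 1 :=
      (pow_mul _ _ _).trans (ext_pi.cube (ext_pi.mem_iff.2 ((map_pow pi g _).trans (pow_orderOf_eq_one _))))
    have := e.trans (orderOf_dvd_of_pow_eq_one h4)
    omega
  have h5 : orderOf y = 2 := orderOf_eq_prime h1 fun e => by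
    rw [e, map_one, orderOf_one] at hy2
    cases hy2
  have h6 : dat.ord (td.ty (g * y)) = orderOf g * 2 := by
    rw [← td.ord, h3.orderOf_mul_eq_mul_orderOf_of_coprime (h5 ▸ (Nat.prime_two.coprime_iff_not_dvd.2 h4).symm), h5]
  have h7 : dat.pwf (td.ty (g * y)) 2 = td.ty g := by
    rw [← td.pow, h3.mul_pow, h1, mul_one, TD.pow_coprime (Nat.prime_two.coprime_iff_not_dvd.2 h4)]
  have h8 : ∀ x : Trip, (∀ d ∈ D, Commute d (pi x)) → td.ty x ∉ [35, 15, 64, 38, 73, 41, 42, 43] := fun x h e => by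
    obtain ⟨f, -, r, -, h8, h9⟩ := sing _ e
    exact h9 ((h8.spec rfl).2 ▸ h16.trans (card_dvd_of_le fun d hd => mem_centralizer_singleton_iff.2 (h d hd)))
  rcases cas _ (td.lt (g * y)) (by omega) with e | e | e | e | e
  · rw [h6, Nat.mul_div_cancel _ two_pos, ← td.pow, h3.mul_pow, pow_orderOf_eq_one, one_mul,
      TD.pow_coprime (h5 ▸ (Nat.prime_two.coprime_iff_not_dvd.2 h4).symm)] at e
    exact absurd e h2
  · exact absurd (e ▸ List.mem_cons_self) (h8 (g * y) fun d hd => by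
      rw [map_mul]
      exact (hgD d hd).mul_right (hyD d hd).symm)
  · exact absurd (List.mem_cons_of_mem _ (h7 ▸ e)) (h8 g hgD)
  · obtain ⟨c, h9⟩ := (by unfold Sg; decide +kernel : ∀ t ∈ [0, 4], Sg t [] 4585351680) _ e |>.spec h7.symm |>.1
      |> isConj_iff.1
    rw [ev_nil, mul_one, mul_inv_cancel] at h9
    obtain ⟨Q, hQ⟩ := hD.pg.exists_le_sylow
    have h10 := le_antisymm hQ (hmax _ Q.isPGroup' hQ fun k _ => h9 ▸ Commute.one_right k)
    intro r h11 h12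
    obtain ⟨k, hk⟩ := pelt_of_mem Q.isPGroup' (selfN_H8 Q (Subgroup.centralizer_le_normalizer _
      (mem_centralizer_iff.2 fun d hd => h11 d (h10 ▸ hd))))
    exact eq_one_of_reg h12 hk
  obtain ⟨t, -, f, -, r, -, h9, h14, f', -, q, -, h11, h15, h13, a, -, h10, h12⟩ := thr _ e
  obtain ⟨⟨v, hv⟩⟩ := (Nat.card_pos_iff.1 (h15.trans_eq (td_mass.2 t h11.1).symm)).1
  obtain ⟨h16, h17⟩ := h9.spec h7.symm
  obtain ⟨c, h18⟩ := isConj_iff.1 ((h14.spec (x := v ^ 2) (by rw [td.pow, hv])).1.symm.trans h16)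
  obtain ⟨c, rfl⟩ := ext_pi.surj c
  have h19 : td.ty (c * v * c⁻¹) = t := (td.conj _ c).trans hv
  generalize hu : c * v * c⁻¹ = u at h19
  have h20 : pi g = pi u ^ 2 := by rw [← h18, ← hu, ← map_pow, conj_pow, map_mul, map_mul, map_inv]
  have h21 : td.ty (u ^ 3) = 3 := by rw [td.pow, h19, h13]
  obtain ⟨s, h22, h23, h24⟩ := cen_conj (u := pi u) (t := pi (u ^ 3)) (a := a) hD.pg hgD hmax
    (h20 ▸ npow_mem_zpowers _ 2) (map_pow pi u 3 ▸ npow_mem_zpowers _ 3) (by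
      rw [← map_pow, orderOf_dvd_iff_pow_eq_one.1 (by rw [td.ord, h21]; decide), map_one])
    ((h11.spec h19).2 ▸ h12) (h17 ▸ h10)
  exact hD.rt_of_constr h23 h24 ((constr h21).conj h22)

end Cfsg.Agent.BZ.X.O7
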