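import Cfsg.Agent.BZ.T.Loc
import Cfsg.Agent.KM.Xc.Ab

/-!
# BZ, the exceptional covers: a non-abelian group of order `27` on an elementary abelian group of order `256` (helper30)
-/

set_option autoImplicit false
set_option linter.unusedSectionVars false
set_option maxHeartbeats 200000

namespace Cfsg.Agent.BZ.X.R1

open Cfsg Subgroup Cfsg.Agent.BHZ.Spor Cfsg.Agent.KM.Xc MulAction

variable {H V : Type} [Group H] [Finite H] [AddCommGroup V] [Finite V] [DistribMulAction H V]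

/-- counting orbits on the nonzero vectors -/
theorem cnt (K : Subgroup H) (U : AddSubgroup V) (hU : ∀ g ∈ K, ∀ v ∈ U, g • v ∈ U) {m : ℕ}
    (h : ∀ v ∈ U, v ≠ 0 → m ∣ (stabilizer H v).relIndex K) : ∃ c, Nat.card U = m * c + 1 := by
  classical
  let X : SubMulAction K V :=
    { carrier := {v | v ∈ U ∧ v ≠ 0}
      smul_mem' := fun g v hv => ⟨hU g g.2 v hv.1, fun e => hv.2 ((smul_eq_zero_iff_eq g).1 e)⟩ }
  have h1 : m ∣ Nat.card X := by
    have := Fintype.ofFinite (orbitRel.Quotient K X)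
    rw [Nat.card_congr (selfEquivSigmaOrbits K X), Nat.card_sigma]
    refine Finset.dvd_sum fun o _ => ?_
    rw [Nat.card_congr (orbitEquivQuotientStabilizer K o.out), ← index_eq_card]
    rw [show stabilizer K o.out = (stabilizer H o.out.1).subgroupOf K from Subgroup.ext fun g => Subtype.ext_iff]
    exact h o.out.1 o.out.2.1 o.out.2.2
  obtain ⟨c, hc⟩ := h1
  refine ⟨c, ?_⟩
  rw [← hc, ← Finite.card_option]
  exact Nat.card_congr ((Equiv.optionSubtypeNe (0 : U)).symm.trans (Equiv.optionCongr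
    ⟨fun v => ⟨v.1.1, v.1.2, fun e => v.2 (Subtype.ext e)⟩, fun v => ⟨⟨v.1, v.2.1⟩, fun e => v.2.2 (congrArg Subtype.val e)⟩,
      fun _ => rfl, fun _ => rfl⟩))

/-- an element of prime order without fixed vectors -/
theorem cnt_prime {t : H} (ht : (orderOf t).Prime) (U : AddSubgroup V) (hU : ∀ v ∈ U, t • v ∈ U)
    (h : ∀ v ∈ U, t • v = v → v = 0) : ∃ c, Nat.card U = orderOf t * c + 1 := by
  refine cnt (zpowers t) U (fun g hg => ?_) fun v hv h0 => ?_
  · obtain ⟨n, rfl⟩ := mem_powers_iff_mem_zpowers.2 hg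
    intro v hv
    induction n with
    | zero => simpa using hv
    | succ n ih => simpa only [pow_succ', mul_smul] using hU _ (ih (pow_mem (mem_zpowers t) n))
  · have h1 : (stabilizer H v).relIndex (zpowers t) ∣ orderOf t := Nat.card_zpowers t ▸ relIndex_dvd_card _ _
    rcases (Nat.dvd_prime ht).1 h1 with h2 | h2
    · exact absurd (h v hv (relIndex_eq_one.1 h2 (mem_zpowers t))) h0
    · exact h2.ge.antisymm h2.le ▸ dvd_rfl

variable (V) in
/-- the fixed vectors -/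
def fxd (g : H) : AddSubgroup V where
  carrier := {v | g • v = v}
  zero_mem' := smul_zero g
  add_mem' := fun {a b} (ha : g • a = a) (hb : g • b = b) => show g • (a + b) = a + b by rw [smul_add, ha, hb]
  neg_mem' := fun {a} (ha : g • a = a) => show g • (-a) = -a by rw [smul_neg, ha]

theorem fxd_inv {g t : H} (h : Commute g t) {v : V} (hv : v ∈ fxd V t) : g • v ∈ fxd V t :=
  show t • g • v = g • v by rw [← mul_smul, ← h.eq, mul_smul, show t • v = v from hv]

theorem card_pow (hV : Nat.card V = 2 ^ 8) (U : AddSubgroup V) : ∃ k ≤ 8, Nat.card U = 2 ^ k :=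
  (Nat.dvd_prime_pow Nat.prime_two).1 (hV ▸ U.card_addSubgroup_dvd_card)

theorem nab [Fact (Nat.Prime 3)] (hV : Nat.card V = 2 ^ 8) (h2 : ∀ v : V, v + v = 0) (hf : ∀ g : H, fxd V g = ⊤ → g = 1)
    (hO : ∀ g : H, Nat.card (fxd V g) ≠ 2 ^ 7) {E : Subgroup H} (hE : Nat.card E = 3 ^ 3) (hn : ¬ IsMulCommutative E) :
    RegTriv 3 E := by
  by_contra h0
  obtain ⟨t, t1, t2, t3⟩ := exists_prime_of_not_regTriv h0
  have hP : IsPGroup 3 E := IsPGroup.of_card hE
  obtain ⟨y, y0, y1, y2⟩ := exists_deep hP hn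
  have yE : y ∈ E := commutator_le.2 (fun a ha b hb => by
    rw [commutatorElement_def]
    exact mul_mem (mul_mem (mul_mem ha hb) (inv_mem ha)) (inv_mem hb)) y0
  have y3 : ∀ v : V, y • y • y • v = v := fun v => by
    rw [← mul_smul, ← mul_smul, ← pow_three', ← y1, pow_orderOf_eq_one, one_smul]
  have full : ∀ K ≤ E, 3 ^ 3 ∣ Nat.card K → K = E := fun K hK h =>
    eq_of_le_of_card_ge hK (hE ▸ Nat.le_of_dvd Nat.card_pos h)
  -- subgroups of order nine contain `y`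
  have nine : ∀ K ≤ E, 3 ^ 2 ∣ Nat.card K → y ∈ K := fun K hK h => by_contra fun hy => by
    have h3 : K ⊔ zpowers y ≤ E := sup_le hK (zpowers_le.2 yE)
    have h4 := full _ h3 (pow_succ_dvd (hP.to_le h3) le_sup_left (mem_sup_right (mem_zpowers y)) hy h)
    have h5 := forall_of_comm (comm_of_not_cube_dvd (hP.to_le hK) fun e => hy (full K hK e ▸ yE))
    have h6 : ∀ a ∈ K, ∀ b ∈ E, Commute b a := fun a ha b hb =>
      mem_centralizer_singleton_iff.1 ((sup_le (fun b hb => mem_centralizer_singleton_iff.2 (h5 b hb a ha))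
        (zpowers_le.2 (mem_centralizer_singleton_iff.2 (y2 a (hK ha)))) : _ ≤ centralizer {a}) (h4.ge hb))
    exact hn (comm_of_forall fun a ha b hb =>
      mem_centralizer_singleton_iff.1 ((sup_le (fun a ha => mem_centralizer_singleton_iff.2 (h6 a ha b hb).symm)
        (zpowers_le.2 (mem_centralizer_singleton_iff.2 (y2 b hb))) : _ ≤ centralizer {b}) (h4.ge ha)))
  let φ : V →+ V := AddMonoidHom.mk' (fun v => v + y • v + y • y • v) fun a b => by
    simp only [smul_add]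
    abel
  have φv : ∀ v, φ v = v + y • v + y • y • v := fun _ => rfl
  have wi : ∀ g, Commute g y → ∀ v ∈ φ.ker, g • v ∈ φ.ker := fun g hg v hv => by
    have h3 : ∀ w : V, y • g • w = g • y • w := fun w => by rw [← mul_smul, ← hg.eq, mul_smul]
    rw [AddMonoidHom.mem_ker, φv, h3, h3, ← smul_add, ← smul_add, ← φv, hv, smul_zero]
  have wy : ∀ v ∈ φ.ker, y • v = v → v = 0 := fun v hv e => by
    rwa [AddMonoidHom.mem_ker, φv, e, e, h2, zero_add] at hv
  have ry : φ.range = fxd V y := le_antisymm (by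
      rintro _ ⟨v, rfl⟩
      show y • φ v = φ v
      rw [φv, smul_add, smul_add, y3]
      abel) fun v (hv : y • v = v) => ⟨v, by rw [φv, hv, hv, h2, zero_add]⟩
  have hc : Nat.card φ.ker * Nat.card (fxd V y) = 2 ^ 8 := by
    rw [← ry, ← AddSubgroup.index_ker, AddSubgroup.card_mul_index, hV]
  have st : ∀ v ∈ φ.ker, v ≠ 0 → ¬ 3 ^ 2 ∣ Nat.card ↥(stabilizer H v ⊓ E) := fun v hv h0 h =>
    h0 (wy v hv (nine _ inf_le_right h).1)
  have ri : ∀ v : V, Nat.card ↥(stabilizer H v ⊓ E) * (stabilizer H v).relIndex E = 3 ^ 3 := fun v => by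
    rw [← hE, relIndex, ← ((stabilizer H v).subgroupOf E).card_mul_index, ← inf_subgroupOf_right,
      Nat.card_congr (subgroupOfEquivOfLe inf_le_right).toEquiv]
  -- the invariant subgroups of `[V, y]`
  have irr : ∀ U ≤ φ.ker, (∀ g ∈ E, ∀ v ∈ U, g • v ∈ U) → U ≠ ⊥ → Nat.card U = 2 ^ 6 := fun U hU h h0 => by
    obtain ⟨c, hc⟩ := cnt E U h (m := 3 ^ 2) fun v hv h0 => by
      obtain ⟨k, hk⟩ := (hP.to_le (inf_le_right : stabilizer H v ⊓ E ≤ E)).exists_card_eq
      have h3 := st v (hU hv) h0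
      have h4 := ri v
      rw [hk] at h3 h4
      have h5 : k < 2 := not_le.1 fun e => h3 (pow_dvd_pow 3 e)
      interval_cases k <;> omega
    obtain ⟨k, h3, hk⟩ := card_pow hV U
    have h4 : Nat.card U ≠ 1 := mt AddSubgroup.card_eq_one.1 h0
    rw [hk] at hc h4 ⊢
    interval_cases k <;> omega
  have hW : Nat.card φ.ker = 2 ^ 6 := irr _ le_rfl (fun g hg => wi g (y2 g hg).symm) fun e => by
    rw [e, AddSubgroup.card_bot, one_mul, ← hV] at hc
    rw [hf y (AddSubgroup.eq_top_of_card_eq _ hc), orderOf_one] at y1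
    omega
  have ty : Commute t y := (t3 y yE).symm
  have h3 : fxd V t ⊓ φ.ker ≠ ⊥ := fun e => by
    have h3 : ∀ v ∈ φ.ker, t • v = v → v = 0 := fun v hv h => AddSubgroup.mem_bot.1 (e ▸ ⟨h, hv⟩)
    obtain ⟨c, h4⟩ := cnt_prime t1 _ (wi t ty) h3
    have h5 : orderOf t = 7 := by
      have h5 : orderOf t ∣ 3 ^ 2 * 7 := ⟨c, by omega⟩
      exact ((Nat.Prime.dvd_mul t1).1 h5).elim
        (fun h => absurd ((Nat.prime_dvd_prime_iff_eq t1 Nat.prime_three).1 (t1.dvd_of_dvd_pow h)) t2)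
        (Nat.prime_dvd_prime_iff_eq t1 (by norm_num)).1
    obtain ⟨v, hv, h6, h7⟩ : ∃ v ∈ φ.ker, v ≠ 0 ∧ stabilizer H v ⊓ E ≠ ⊥ := by
      by_contra h6
      push Not at h6
      obtain ⟨c, h7⟩ := cnt E _ (fun g hg => wi g (y2 g hg).symm) (m := 3 ^ 3) fun v hv h0 => by
        rw [← ri v, h6 v hv h0, card_bot, one_mul]
      omega
    obtain ⟨⟨s, s1, s2⟩, s3⟩ := ne_bot_iff_exists_ne_one.1 h7
    obtain ⟨a, h8⟩ := cnt_prime t1 (fxd V s ⊓ φ.ker) (fun v hv => ⟨fxd_inv (t3 s s2).symm hv.1, wi t ty v hv.2⟩)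
      fun v hv => h3 v hv.2
    obtain ⟨b, h9⟩ := cnt_prime (y1 ▸ Nat.prime_three) (fxd V s ⊓ φ.ker)
      (fun v hv => ⟨fxd_inv (y2 s s2) hv.1, wi y (Commute.refl y) v hv.2⟩) fun v hv => wy v hv.2
    obtain ⟨k, k1, hk⟩ := card_pow hV (fxd V s ⊓ φ.ker)
    have h10 : Nat.card ↥(fxd V s ⊓ φ.ker) ≠ 1 := fun e =>
      h6 (AddSubgroup.mem_bot.1 (AddSubgroup.card_eq_one.1 e ▸ ⟨s1, hv⟩))
    have h11 : fxd V s ⊓ φ.ker = φ.ker := AddSubgroup.eq_of_le_of_card_ge inf_le_right (by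
      rw [h5, hk] at h8
      rw [y1, hk] at h9
      rw [hk] at h10
      rw [hW, hk]
      interval_cases k <;> omega)
    let K : Subgroup H := E ⊓ ⨅ w : φ.ker, stabilizer H (w : V)
    obtain ⟨z, z1, z2, z3⟩ := exists_central hP (N := K) (fun e => s3 (Subtype.ext (mem_bot.1
      (e ▸ ⟨s2, mem_iInf.2 fun w => (h11.ge w.2).1⟩)))) inf_le_left fun d hd u hu =>
        mem_inf.2 ⟨mul_mem (mul_mem hd hu.1) (inv_mem hd), mem_iInf.2 fun w => by
          rw [mem_stabilizer_iff, mul_smul, mul_smul,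
            mem_stabilizer_iff.1 (mem_iInf.1 hu.2 ⟨_, wi _ (y2 _ (inv_mem hd)).symm _ w.2⟩), smul_inv_smul]⟩
    have h12 : zpowers z ≤ zc E := zpowers_le.2 ⟨z1.1, fun d hd => (z3 d hd).symm⟩
    have h13 : 3 ^ 2 ∣ Nat.card (zc E) := pow_succ_dvd (hP.to_le inf_le_left) h12 (x := y) ⟨yE, fun d hd => (y2 d hd).symm⟩
      (fun e => h6 (wy v hv (mem_iInf.1 (zpowers_le.2 z1 e).2 ⟨v, hv⟩))) (by rw [Nat.card_zpowers, z2, pow_one])
    refine hn (comm_of_forall fun a ha b hb => ?_)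
    by_cases h14 : b ∈ zc E
    · exact h14.2 a ha
    · exact mem_centralizer_singleton_iff.1 ((full (E ⊓ centralizer {b}) inf_le_left (pow_succ_dvd (hP.to_le inf_le_left)
        (A := zc E) (fun x hx => ⟨hx.1, mem_centralizer_singleton_iff.2 (hx.2 b hb).symm⟩)
        ⟨hb, mem_centralizer_singleton_iff.2 rfl⟩ h14 h13)).ge ha).2
  have h4 : φ.ker ≤ fxd V t := inf_eq_right.1 (AddSubgroup.eq_of_le_of_card_ge inf_le_right (hW.trans
    (irr _ inf_le_right (fun g hg v hv => ⟨fxd_inv (t3 g hg) hv.1, wi g (y2 g hg).symm v hv.2⟩) h3).symm).le)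
  obtain ⟨v, v1, v2, v3⟩ : ∃ v ∈ fxd V y, t • v = v ∧ v ≠ 0 := by
    by_contra h5
    push Not at h5
    obtain ⟨c, h6⟩ := cnt_prime t1 (fxd V y) (fun v hv => fxd_inv ty hv) h5
    rw [hW, h6] at hc
    exact t2 ((Nat.prime_dvd_prime_iff_eq t1 Nat.prime_three).1 ⟨c, by omega⟩)
  have h5 : Nat.card φ.ker < Nat.card (fxd V t) := lt_of_le_of_ne (AddSubgroup.card_le_of_le h4) fun e =>
    v3 (wy v ((AddSubgroup.eq_of_le_of_card_ge h4 e.ge).ge v2) v1)
  obtain ⟨k, k1, hk⟩ := card_pow hV (fxd V t)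
  have h6 := hO t
  have h7 : Nat.card (fxd V t) ≠ 2 ^ 8 := fun e => by
    rw [hf t (AddSubgroup.eq_top_of_card_eq _ (e.trans hV.symm)), orderOf_one] at t1
    exact Nat.not_prime_one t1
  rw [hW] at h5
  rw [hk] at h5 h6 h7
  interval_cases k <;> omega

end Cfsg.Agent.BZ.X.R1
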