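import Cfsg.Agent.BZ.X.RT
import Cfsg.Agent.BZ.X.RB1a
import Cfsg.Agent.KM.Sc.O82
import Cfsg.Agent.ClassicalGeometry.OrthDickson

/-!
# BZ, the exceptional covers: large local data of `Sp₆(2)`, `Ω₈⁺(2)`, `G₂(4)` at the prime three (helper30)
-/

set_option autoImplicit false
set_option linter.unusedSectionVars false
set_option maxHeartbeats 200000

namespace Cfsg.Agent.BZ.X

open Cfsg Cfsg.Lie Cfsg.Agent.DL Cfsg.Agent.KZ.Dat Cfsg.Agent.KZ.Dat.Om Cfsg.Agent.KM Cfsg.Agent.KM.Xc Cfsg.Agent.KM.BD Matrix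
  Cfsg.Agent.LieClassical.OrthForms Cfsg.Agent.BZ.T Cfsg.Agent.BHZ.Spor Cfsg.Agent.KZ.DatX Cfsg.Agent.BZ.X.R1
  Cfsg.Agent.ClassicalGeometry
open Cfsg.Agent.TO.X.Cn (pi1 pm_G2)

theorem R1.rb_s62_two (F : Type) [Field F] [Fintype F] (hF : Fintype.card F = 2) : RB 3 2 (PSp 3 F) := by
  have : Fact (Nat.Prime 2) := ⟨Nat.prime_two⟩
  have : Fact (Nat.Prime 3) := ⟨Nat.prime_three⟩
  obtain ⟨k, _, _, _, hk, ⟨f⟩⟩ := field_two F hF
  have h1 : Subgroup.center (symplecticGroup (Fin 3) F) = ⊥ := by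
    rw [← Subgroup.card_eq_one, LieClassical.SympCenter.card_center (by omega), hF]
    decide
  have e : ↥(GF (FC 3 k 2 1) (GC 3 k)) ≃* PSp 3 F := (eqvC (p := 2) (e := 1) f hF).symm.trans
    ((QuotientGroup.quotientMulEquivOfEq h1).trans QuotientGroup.quotientBot).symm
  have := Asm.finite_GF (datC 3 hk one_pos)
  have := Finite.of_equiv _ e.toEquiv
  refine (rb_allT (datC 3 hk one_pos) (by decide)
    (allT_of_lev _ (ScC.pi1C hk one_pos) (by decide) (by decide) (ScC.levC hk one_pos (by decide)))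
    (Cv.tb_of_bound _ _ (fqC one_pos 3) (fun s hs h2 h3 => five_le hs h2 h3) ?_)
    fun E h2 h3 => absurd (IsPGroup.isMulCommutative_of_card_eq_prime_sq h2) h3).congr e
  show (2 ^ 1 + 1) ^ Fintype.card (Fin 3) < 3 ^ 2 * 5
  rw [Fintype.card_fin]
  decide

theorem R1.nab_om (F : Type) [Field F] [Fintype F] (hF : Fintype.card F = 2) {E : Subgroup (Omega F (plusForm 4 F))}
    (hE : Nat.card E = 3 ^ 3) (hn : ¬ IsMulCommutative E) : RegTriv 3 E := by
  have : Fact (Nat.Prime 2) := ⟨Nat.prime_two⟩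
  have : Fact (Nat.Prime 3) := ⟨Nat.prime_three⟩
  have : CharP F 2 := charP_of_card_eq_prime hF
  let _ : DistribMulAction (Omega F (plusForm 4 F)) (Fin 4 ⊕ Fin 4 → F) :=
    { smul := fun g v => OrthCharTwo.act g.1 v
      one_smul := OrthCharTwo.act_one
      mul_smul := fun g h => OrthCharTwo.act_mul g.1 h.1
      smul_zero := fun g => OrthCharTwo.act_zero g.1
      smul_add := fun g => OrthCharTwo.act_add g.1 }
  refine nab (V := Fin 4 ⊕ Fin 4 → F) (by simp [hF]) (fun v => funext fun i => CharTwo.add_self_eq_zero (v i))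
    (fun g hg => Subtype.ext (OrthCharTwo.fixSp_eq_top_iff.1 (eq_top_iff.2 fun v _ => hg.ge trivial))) (fun g hg => ?_) hE hn
  have hQ : Nice (plusForm 4 F) := nice_of (nondeg_plusForm _ _) (by simp) (.inl 0)
    (by simp [coe_plusForm, quadFormPlus_apply])
  have h1 := OrthDickson.dsign_eq_one_of_mem_commutator _ hQ.nd (.inr hQ.ne) g.1 g.2
  have h2 : Nat.card (OrthCharTwo.fixSp g.1) = 2 ^ 7 := hg
  rw [Module.natCard_eq_pow_finrank (K := F), Nat.card_eq_fintype_card, hF] at h2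
  rw [OrthDickson.dsign_def, Nat.pow_right_injective le_rfl h2] at h1
  revert h1
  decide

/-- **`Sp₆(2)`** -/
theorem rb_s62 (F : Type) [Field F] [Fintype F] (hF : Fintype.card F = 2) : RB 3 3 (PSp 3 F) :=
  have : Fact (Nat.Prime 3) := ⟨Nat.prime_three⟩
  (rb_s62_two F hF).mono (by decide)

/-- **`Ω₈⁺(2)`** -/
theorem rb_o82 (F : Type) [Field F] [Fintype F] (hF : Fintype.card F = 2) : RB 3 3 (POmega F (quadFormPlus 4 F)) := by
  have : Fact (Nat.Prime 2) := ⟨Nat.prime_two⟩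
  have : Fact (Nat.Prime 3) := ⟨Nat.prime_three⟩
  obtain ⟨k, _, _, _, hk, ⟨f⟩⟩ := field_two F hF
  have := ODD.C2.finD 2
  rw [← coe_plusForm]
  have hQ : Nice (plusForm 4 F) := nice_of (nondeg_plusForm _ _) (by simp) (.inl 0)
    (by simp [coe_plusForm, quadFormPlus_apply])
  have T := bcP (p := 2) f 4 1
  have h2 : (2 : F) = 0 := f.injective (by rw [map_ofNat, map_zero, ← CharP.cast_eq_zero k 2, Nat.cast_ofNat])
  have h1 : Subgroup.center (Omega F (plusForm 4 F)) = ⊥ := by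
    refine eq_bot_iff.2 fun z hz => T.io_inj (Units.ext ?_)
    rw [map_one]
    rcases T.cen hQ hz with h | h
    · exact h
    · rw [h, Units.val_one]
      ext i j
      exact CharTwo.neg_eq _
  have hm := T.io_mem (osD 2).sy_id h2D (e := 1) hF hQ (0, true)
  have e : Omega F (plusForm 4 F) ≃* ↥(GF ((osD 2).sy_id.F k 2 1) ((osD 2).G k)) :=
    MulEquiv.ofBijective (T.io.codRestrict _ hm) ⟨fun _ _ h => T.io_inj (congrArg Subtype.val h), fun u => by
      obtain ⟨g, h3, h4⟩ := (T.mem_GF (osD 2).sy_id h2D (e := 1) hF hQ (0, true)).1 u.2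
      exact ⟨⟨g, (H183.mem_Omega_iff_dsign _ h2 hQ.nd (.inr hQ.ne) g).2 h3⟩, Subtype.ext h4⟩⟩
  have e' := e.symm.trans ((QuotientGroup.quotientMulEquivOfEq h1).trans QuotientGroup.quotientBot).symm
  have := Asm.finite_GF (datP 2 hk one_pos)
  have := Finite.of_equiv _ e'.toEquiv
  refine (rb_allT (datP 2 hk one_pos) (by decide)
    (allT_of_lev _ (pi1P4 hk one_pos) (by decide) (by decide) (levP hk one_pos (by decide)))
    (Cv.tb_of_bound _ _ (fqP one_pos 2) (fun s hs h2 h3 => five_le hs h2 h3) ?_)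
    fun E h3 h4 => rt_congr e (nab_om F hF ?_ (mt (comm_congr e) h4))).congr e'
  · show (2 ^ 1 + 1) ^ Fintype.card (Fin 4) < 3 ^ 3 * 5
    rw [Fintype.card_fin]
    decide
  · rwa [← Subgroup.card_map_of_injective (f := e.toMonoidHom) e.injective,
      Subgroup.map_comap_eq_self_of_surjective e.surjective]

/-- **`G₂(4)`** -/
theorem rb_g24 (F : Type) [Field F] [Fintype F] (hF : Fintype.card F = 4) : RB 3 2 ↥(chevG2.group F) := by
  have : Fact (Nat.Prime 2) := ⟨Nat.prime_two⟩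
  have : Fact (Nat.Prime 3) := ⟨Nat.prime_three⟩
  have : CharP F 2 := charP_of_card_eq_prime_pow (f := 2) hF
  obtain ⟨k, _, _, _, X, -, ⟨s⟩⟩ := Nt.has_G2 (r := 2) (e := 2) (F := F) hF (by omega)
  have := X.finite
  have : Finite ↥(chevG2.group F) := Finite.of_injective _ s.ov.hom_inj
  have : Nonempty X.D.R := ⟨(0 : Fin 2)⟩
  refine (rb_one X.D (pi1 X pm_G2) (by decide) (Nat.coprime_one_right 3) (Ex.nl_of X Nat.prime_three Ex.bad_G2)
    (Ex.two_of X Nat.prime_three Ex.bad_G2 Ex.twoC_G2)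
    (Cv.tb_of_bound _ _ (Sp.F42.fq_mx X.D X.D_Mx) (fun s hs h2 h3 => five_le hs h2 h3) ?_)
    fun E h2 h3 => absurd (IsPGroup.isMulCommutative_of_card_eq_prime_sq h2) h3).congr s.ov.equiv.symm
  show (2 ^ 2 + 1) ^ Fintype.card (Fin 2) < 3 ^ 2 * 5
  rw [Fintype.card_fin]
  decide

end Cfsg.Agent.BZ.X
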