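import Cfsg.Agent.BZ.X.O73A
import Cfsg.Agent.BZ.C1.Gen
import Cfsg.Agent.OddOrderCharacters.PF9.MackeyIrr

/-!
# BZ, the cover `3.Ω₇(3)` at the prime two (helper25)

The `378` blocks of the `1134` points are the lines spanned by the vectors of norm one.  The character which is
induced from the product of the shift and the sign is irreducible: `fd378`, `dg378`, `o73`.
-/

set_option autoImplicit false
set_option maxRecDepth 100000
set_option synthInstance.maxSize 4000
set_option linter.unusedSectionVars false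

namespace Cfsg.Agent.BZ.X.O7

open Cfsg Subgroup Matrix Cfsg.Agent.BZ.T Cfsg.Agent.BZ.C2 Cfsg.Agent.MK.C3L.O Cfsg.Agent.H51.Mult
open Cfsg.Agent.H64.O73Perm hiding ev_eq_one
open Cfsg.Agent.Fischer.Derived Cfsg.Agent.Fischer.O73 Cfsg.Agent.Fischer.Y322 Cfsg.Agent.Fischer.Y322Iso

/-- the vectors -/
def vt : ℕ := 0x155606a912a909a915a921a92456185600561a690669119606961a96116928692896006919162916091616161929061620292016002905661966129926660599126628992866009905a6165911a629590aa622a61859245900592a191a190a191a2615190a261026202600262546294621461646258921890889084600462a4926492249268615492286048608860086140618090406240914090409100610090009055a295a115a165a05a511a5245a24a5005a0a652665219a19650565129a28651465009a2a25251a0a251a1a2a1a0a1a2025102500251a95096a116a066a1a6a1195146a286a009515aa0655125506aa155512aa24aa245500aa2615292a0615291519150915102a1015002a154a26852285264a2a4a224a08850485004a1a45298a218a294525452145084504450045140a240a040a2405280a0405100a200a0005255226a1015226521a52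02522452185200522a612992019229612a92016128612892006122211221022121212212012120212012002115622962029129912a62019114622862009125a2265101a226a22551015124a2245100a21122121101221222222202221022101100220a810942014209810a4201810881084200420a410641024106820a820282084104410041150225020502260129020601220121020201160219010602250115010501120211010101140218010402240128020401100220020001155809582158265825a401a4045814a410582598066422642964156402980864189820982624291809181218112401242824241804180a941968129416682a68019424680868209405a829a811a826a8255402a828540454105415281a140a141228111402282414282808281a841684128406480a48024828842484208415881988118809440544014418442888208829042608060825042a08050421042208010425600960229019900a6021902460086020902a500650125016a00550115028500450105026102920092025102a2005102410282008201a402980124019402a801140184028801040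

/-- the ranks -/
def rt : ℕ := 0x80504050a06020c030c0a05040b0a030f06060b0c04050a0207080407040b06060d03070b0d050c05080e0406050c0d05060906070605030c07070104060e06040d09090d07050c0308070506070f0d03040e05080605060c05050d090c0b04050f06050409050a0f0605080d05070709050b05010c04090a0b0410040606030a06090e02050806080204060f0402100a080e03050e05070c0504090306070f0b03070906070906091208060e08061008080e060709010707030907030a04080806061306080f05060f070a0d070607070305090307050507070f05070f07090d0707090909090505120808000608020e0a080608020608021008080806020804040e130a080c07060e030406070a0d06050e060507070d0c1004050805040b0b09030d07030703070c0b020d06060804090c0b1104050804030a06041002040d08060205031105070e0808040304090506070e0d0f0e06040e08020108040d05020f0502000704050608070607070800010107030109030309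

/-- the vector of a block -/
def vv (b : ℕ) : V7 :=
  ⟨(vt >>> (16 * b) % 4 : ℕ), (vt >>> (16 * b + 2) % 4 : ℕ), (vt >>> (16 * b + 4) % 4 : ℕ), (vt >>> (16 * b + 6) % 4 : ℕ),
    (vt >>> (16 * b + 8) % 4 : ℕ), (vt >>> (16 * b + 10) % 4 : ℕ), (vt >>> (16 * b + 12) % 4 : ℕ)⟩

/-- the rank of a block -/
def rk (b : ℕ) : ℕ := rt >>> (8 * b) % 256

/-- the negative -/
def ng (v : V7) : V7 := ⟨-v.a, -v.b, -v.c, -v.d, -v.e, -v.f, -v.g⟩

theorem ng_toFun (v : V7) : (ng v).toFun = -v.toFun := by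
  funext i
  rcases i with ⟨⟩ | i | i
  · rfl
  · fin_cases i <;> rfl
  · fin_cases i <;> rfl

theorem toFun_inj {v w : V7} (h : v.toFun = w.toFun) : v = w := congrArg ofFun h

theorem vv_ne : ∀ b < 378, vv b ≠ ng (vv b) := by decide +kernel

theorem vv_gen : ∀ j : Fin 8, ∀ b < 378, (root j).act (vv b) = vv (wd [j] (3 * b) / 3) ∨
    (root j).act (vv b) = ng (vv (wd [j] (3 * b) / 3)) := by decide +kernel

/-- the action on the points -/
def ac (g : Trip) (p : Fin 1134) : Fin 1134 := (g : Equiv.Perm (Fin 1134)) p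

/-- the action on the vectors -/
noncomputable def av (g : Trip) (v : Ix → ZMod 3) : Ix → ZMod 3 := mat (toO (pi g)) *ᵥ v

/-- the block of a point -/
def bl (p : Fin 1134) : ℕ := p.val / 3

/-- the vector of a point -/
def vc (p : Fin 1134) : Ix → ZMod 3 := (vv (bl p)).toFun

theorem ac_mul (g h : Trip) (p : Fin 1134) : ac (g * h) p = ac g (ac h p) := rfl

theorem ac_one (p : Fin 1134) : ac 1 p = p := rfl

theorem ac_ev (w : List (Fin 8)) (p : Fin 1134) : (ac (ev y8 w) p).val = wd w p.val := fn_wd w p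

theorem av_mul (g h : Trip) (v : Ix → ZMod 3) : av (g * h) v = av g (av h v) := by
  rw [av, map_mul, map_mul, mat_mul, ← mulVec_mulVec]
  rfl

theorem av_one (v : Ix → ZMod 3) : av 1 v = v := by rw [av, map_one, map_one, mat_one, one_mulVec]

theorem av_neg (g : Trip) (v : Ix → ZMod 3) : av g (-v) = -av g v := mulVec_neg _ _

theorem av_ev (w : List (Fin 8)) (v : V7) : av (ev y8 w) v.toFun = (actW w v).toFun := by rw [av, pi_ev, toO_ev, mat_ev]

theorem bl_lt (p : Fin 1134) : bl p < 378 := Nat.div_lt_of_lt_mul p.2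

theorem vc_ne (p : Fin 1134) : -vc p ≠ vc p := fun h => vv_ne _ (bl_lt p) (toFun_inj (h.symm.trans (ng_toFun _).symm))

theorem zz_if (p : Fin 1134) : (ac zz p).val = if p.val % 3 = 2 then p.val - 2 else p.val + 1 := by
  refine (zz_val p).trans ?_
  rw [sh]
  rcases (by omega : p.val % 3 = 0 ∨ p.val % 3 = 1 ∨ p.val % 3 = 2) with e | e | e <;> rw [e] <;> rfl

theorem bl_zz (p : Fin 1134) : bl (ac zz p) = bl p := by
  rw [bl, zz_if, bl]
  split_ifs <;> omega

theorem two_zz (p : Fin 1134) : 2 * ((ac zz p).val : ZMod 6) = 2 * p.val + 2 := by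
  have h : ((2 * (ac zz p).val : ℕ) : ZMod 6) = (2 * p.val + 2 : ℕ) := (ZMod.natCast_eq_natCast_iff' _ _ _).2 (by
    rw [zz_if]
    split_ifs <;> omega)
  exact_mod_cast h

theorem of_bl {α : Type} (F : Fin 1134 → α) (h : ∀ p, F (ac zz p) = F p) {p q : Fin 1134} (e : bl p = bl q) :
    F p = F q := by
  have h1 := zz_if p
  have h2 := zz_if (ac zz p)
  rw [bl, bl] at e
  rcases (by split_ifs at h1 h2 <;> omega : q.val = p.val ∨ q.val = (ac zz p).val ∨ q.val = (ac zz (ac zz p)).val) with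
    e | e | e <;> rw [Fin.ext e]
  · rw [h]
  · rw [h, h]

theorem ac_zz (g : Trip) (p : Fin 1134) : ac g (ac zz p) = ac zz (ac g p) := by rw [← ac_mul, ← (zz_comm g).eq, ac_mul]

theorem bl_ac (g : Trip) {p q : Fin 1134} (e : bl p = bl q) : bl (ac g p) = bl (ac g q) :=
  of_bl (fun p => bl (ac g p)) (fun p => by rw [ac_zz, bl_zz]) e

theorem vc_eq {p q : Fin 1134} (e : bl p = bl q) : vc p = vc q := by rw [vc, e, vc]

/-- the first point of a block -/
def pt (b : ℕ) (h : b < 378) : Fin 1134 := ⟨3 * b, by omega⟩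

theorem bl_pt (b : ℕ) (h : b < 378) : bl (pt b h) = b := Nat.mul_div_cancel_left b three_pos

/-- **the blocks are the lines** -/
theorem lines (g : Trip) : ∀ p, av g (vc p) = vc (ac g p) ∨ av g (vc p) = -vc (ac g p) := by
  refine closure_induction (p := fun g _ => ∀ p, av g (vc p) = vc (ac g p) ∨ av g (vc p) = -vc (ac g p)) ?_
    (fun p => .inl (av_one _)) (fun g h _ _ h1 h2 p => ?_) (fun g _ h p => ?_) (closure_y8 ▸ mem_top g)
  · rintro _ ⟨j, rfl⟩ p
    have h1 : bl (ac (y8 j) p) = wd [j] (3 * bl p) / 3 := by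
      rw [bl_ac _ (bl_pt _ (bl_lt p)).symm, ← mul_one (y8 j)]
      exact congrArg (· / 3) (ac_ev [j] _)
    have h2 : av (y8 j) (vc p) = ((root j).act (vv (bl p))).toFun := by
      rw [← mul_one (y8 j)]
      exact av_ev [j] _
    rw [h2, vc, h1, ← ng_toFun]
    exact (vv_gen j _ (bl_lt p)).imp (congrArg _) (congrArg _)
  · rw [av_mul, ac_mul]
    rcases h2 p with e | e <;> rw [e]
    · exact h1 _
    · rw [av_neg, neg_inj, neg_eq_iff_eq_neg]
      exact (h1 _).symm
  · have h1 := (h (ac g⁻¹ p)).imp (congrArg (av g⁻¹)) (congrArg (av g⁻¹))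
    rw [← av_mul, ← ac_mul, mul_inv_cancel, inv_mul_cancel, av_one, ac_one, av_neg] at h1
    exact h1.imp Eq.symm fun e => neg_eq_iff_eq_neg.1 e.symm

open Classical in
/-- the cocycle -/
noncomputable def cc (g : Trip) (p : Fin 1134) : ZMod 6 :=
  2 * (ac g p).val - 2 * p.val + if av g (vc p) = vc (ac g p) then 0 else 3

theorem cc_mul (g h : Trip) (p : Fin 1134) : cc (g * h) p = cc g (ac h p) + cc h p := by
  have h3 : (3 : ZMod 6) + 3 = 0 := by decide
  rw [cc, cc, cc, av_mul, ac_mul]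
  rcases lines h p with e | e <;> rw [e]
  · rw [if_pos rfl]
    ring
  rw [av_neg, if_neg (vc_ne _)]
  rcases lines g (ac h p) with e | e <;> rw [e]
  · rw [if_pos rfl, if_neg (vc_ne _)]
    ring
  · rw [neg_neg, if_pos rfl, if_neg (vc_ne _)]
    linear_combination -h3

theorem cc_one (p : Fin 1134) : cc 1 p = 0 := by rw [cc, av_one, ac_one, if_pos rfl, sub_self, add_zero]

theorem cc_bl (g : Trip) {p q : Fin 1134} (e : bl p = bl q) : cc g p = cc g q :=
  of_bl (cc g) (fun p => by
    rw [cc, cc, ac_zz, two_zz, two_zz, vc_eq (bl_zz _), vc_eq (bl_zz _)]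
    ring) e

theorem cc_conj {a : Trip} {q : Fin 1134} (e : bl (ac a q) = bl q) (h : Trip) : cc (h * a * h⁻¹) (ac h q) = cc a q := by
  have h1 := cc_mul h⁻¹ h q
  rw [inv_mul_cancel, cc_one] at h1
  rw [cc_mul, cc_mul, ← ac_mul h⁻¹, inv_mul_cancel, ac_one, cc_bl h e]
  linear_combination -h1

/-- the cocycle of a word -/
noncomputable def cw (w : List (Fin 8)) (p : ℕ) : ZMod 6 :=
  2 * wd w p - 2 * p + if actW w (vv (p / 3)) = vv (wd w p / 3) then 0 else 3

theorem cc_ev (w : List (Fin 8)) (p : Fin 1134) : cc (ev y8 w) p = cw w p.val := by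
  rw [cc, cw, vc, av_ev, vc, bl, bl, ac_ev]
  exact congrArg _ (if_congr ⟨toFun_inj, congrArg _⟩ rfl rfl)

/-- the stabiliser of a block -/
def A : Subgroup Trip where
  carrier := {g | bl (ac g 27) = bl 27}
  one_mem' := rfl
  mul_mem' h1 h2 := (bl_ac _ h2).trans h1
  inv_mem' {g} h := by
    have h1 := bl_ac g⁻¹ h
    rw [← ac_mul, inv_mul_cancel] at h1
    exact h1.symm

/-- the block is in the orbit, and the double coset does not contribute -/
def Gb (b : ℕ) : Prop := ∃ g, ∃ a ∈ A, bl (ac g 27) = b ∧ bl (ac a (ac g 27)) = b ∧ cc a 27 ≠ cc a (ac g 27)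

theorem Gb.step {q : Fin 1134} (h : Gb (bl q)) {k : Trip} (hk : k ∈ A) : Gb (bl (ac k q)) := by
  obtain ⟨g, a, h1, h2, h3, h4⟩ := h
  refine ⟨k * g, k * a * k⁻¹, A.mul_mem (A.mul_mem hk h1) (A.inv_mem hk), bl_ac k h2, ?_, ?_⟩
  · rw [← ac_mul, mul_assoc, inv_mul_cancel_left, mul_assoc]
    exact bl_ac k h3
  · rwa [← cc_bl _ hk, cc_conj h1, ac_mul k g, cc_conj (h3.trans h2.symm)]

theorem gb_of (v w : List (Fin 8)) {b : ℕ} (h : wd w 27 / 3 = 9 ∧ wd v 27 / 3 = b ∧ wd w (wd v 27) / 3 = b ∧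
    cw w 27 ≠ cw w (wd v 27)) : Gb b := by
  refine ⟨ev y8 v, ev y8 w, (congrArg (· / 3) (ac_ev w 27)).trans h.1, (congrArg (· / 3) (ac_ev v 27)).trans h.2.1, ?_, ?_⟩
  · rw [bl, ac_ev, ac_ev]
    exact h.2.2.1
  · rw [cc_ev, cc_ev, ac_ev]
    exact h.2.2.2

theorem rk_chk : ∀ b < 378, b = 9 ∨ b = 20 ∨ b = 141 ∨
    ∃ w ∈ ([[0], [2], [4], [5], [7], [6, 3, 2, 1, 2, 3, 6]] : List (List (Fin 8))), wd w 27 / 3 = 9 ∧
      ∃ c ∈ [wd w (3 * b) / 3], c < 378 ∧ c ≠ 9 ∧ rk c < rk b ∧ wd w (3 * c) / 3 = b := by decide +kernel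

theorem gb : ∀ n, ∀ b < 378, rk b < n → b ≠ 9 → Gb b
  | 0, _, _, h, _ => absurd h (Nat.not_lt_zero _)
  | n + 1, b, hb, h, h9 => by
    rcases rk_chk b hb with e | rfl | rfl | ⟨w, -, h1, c, -, h2, h3, h4, h5⟩
    · exact absurd e h9
    · exact gb_of [1] [0, 2] (by decide +kernel)
    · exact gb_of [3, 2, 6, 4, 2, 3] [3, 4, 2, 3, 1, 2, 6, 5, 4, 3, 2, 1, 0, 1, 2, 3, 4, 5, 6, 2, 1, 3, 2, 4, 3, 5, 4, 7]
        (by decide +kernel)
    · have h6 := Gb.step (q := pt c h2) ((bl_pt c h2).symm ▸ gb n c h2 (by omega) h3) (k := ev y8 w)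
        ((congrArg (· / 3) (ac_ev w 27)).trans h1)
      rw [bl, ac_ev] at h6
      exact h5 ▸ h6

theorem index_A : A.index = 378 := by
  have h1 : QuotientGroup.leftRel A = Setoid.ker fun g => bl (ac g 27) := Setoid.ext fun g h => by
    rw [QuotientGroup.leftRel_apply, Setoid.ker_def]
    refine ⟨fun e => ?_, fun e => ?_⟩
    · have h1 := bl_ac g e
      rw [← ac_mul, mul_inv_cancel_left] at h1
      exact h1.symm
    · have h1 := bl_ac g⁻¹ e
      rw [← ac_mul, inv_mul_cancel] at h1
      exact h1.symm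
  have h2 : (Set.range fun g => bl (ac g 27)) = Set.Iio 378 := Set.ext fun b => ⟨fun ⟨_, e⟩ => e ▸ bl_lt _, fun hb => by
    by_cases e : b = 9
    · exact ⟨1, e.symm⟩
    · obtain ⟨g, -, -, h2, -⟩ := gb _ b hb (Nat.lt_succ_self _) e
      exact ⟨g, h2⟩⟩
  change Nat.card (Quotient (QuotientGroup.leftRel A)) = _
  rw [h1, Nat.card_congr (Setoid.quotientKerEquivRange _), h2]
  simp

/-- the linear character -/
noncomputable def xi : A →* ℂˣ := MonoidHom.mk' (fun a => Circle.toUnits (ZMod.toCircle (cc a 27))) fun a b => by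
  rw [← map_mul, ← AddChar.map_add_eq_mul, coe_mul, cc_mul, cc_bl _ b.2]

theorem xi_inj {a b : A} (h : xi a = xi b) : cc a 27 = cc b 27 :=
  ZMod.injective_toCircle (Subtype.ext (congrArg Units.val h))

theorem ind_cen {G : Type} [Group G] [Fintype G] (H : Subgroup G) (θ : H → ℂ) {z : H} (hz : ∀ x : G, Commute (z : G) x) :
    indFun H θ z = H.index * θ z := by
  have h1 : ∀ x : G, extendByZero H θ (x⁻¹ * z * x) = θ z := fun x => by
    rw [mul_assoc, (hz x).eq, inv_mul_cancel_left]
    exact Subtype.val_injective.extend_apply θ 0 z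
  simp only [indFun, h1, Finset.sum_const, Finset.card_univ, nsmul_eq_mul]
  rw [← Nat.card_eq_fintype_card, ← H.card_mul_index, Nat.cast_mul, mul_assoc,
    inv_mul_cancel_left₀ (Nat.cast_ne_zero.2 Nat.card_pos.ne')]

/-- **a faithful character of degree `378`** -/
theorem chi : ∃ χ : Trip → ℂ, IsIrrCharacter Trip χ ∧ χ 1 = (378 : ℕ) ∧ χ zz ≠ χ 1 := by
  have := Fintype.ofFinite Trip
  have h1 := ind_cen A (fun x => (xi x : ℂ)) (z := 1) fun x => Commute.one_left x
  have h2 := ind_cen A (fun x => (xi x : ℂ)) (z := ⟨zz, bl_zz 27⟩) zz_comm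
  refine ⟨_, OddOrderCharacters.PF9.MackeyIrr.isIrr_ind A xi fun g h => ?_,
    h1.trans (by rw [index_A, map_one, Units.val_one, mul_one]), fun e => ?_⟩
  · by_contra hg
    obtain ⟨k, a, h3, h4, h5, h6⟩ := gb _ _ (bl_lt (ac g⁻¹ 27)) (Nat.lt_succ_self _) fun e => hg (A.inv_mem_iff.1 e)
    have h7 := (bl_ac a h4).symm.trans h5
    have h8 := cc_conj h7 g
    have h9 := bl_ac g h7
    rw [← ac_mul g g⁻¹, mul_inv_cancel] at h8 h9
    exact h6 ((xi_inj (h ⟨a, h3⟩ ⟨g * a * g⁻¹, h9⟩ rfl)).trans (h8.trans (cc_bl a h4.symm)))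
  · have h3 := xi_inj (Units.ext (mul_left_cancel₀ (Nat.cast_ne_zero.2 index_ne_zero_of_finite)
      (h2.symm.trans (e.trans h1))))
    rw [OneMemClass.coe_one, cc_one, cc, two_zz, av, pi_zz, map_one, mat_one, one_mulVec, vc_eq (bl_zz _), if_pos rfl,
      add_sub_cancel_left] at h3
    exact absurd h3 (by decide)

open H133.FibPce in
theorem dg378 : Dg 3 H8 (· = 378) := fun K _ _ φ h0 h1 h2 h3 => by
  have : Fact (Nat.Prime 3) := ⟨Nat.prime_three⟩
  have hφ : PCE φ := ⟨h1, h2.le, h0.1.commutator_eq_top⟩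
  have hπ : PCE pi := ⟨ext_pi.surj, ext_pi.ker.le.trans ext_pi.cen, perfect⟩
  have h5 : Nat.card pi.ker = 3 := ext_pi.ker ▸ ext_pi.card
  rcases dichotomy hφ hπ (by rw [h5]; exact Nat.prime_three) ((h2 ▸ h3).trans h5.symm) with h | ⟨e, he⟩
  · have h6 : Nat.card (pj φ pi).ker = 3 ^ 2 := by
      rw [Nat.card_congr (kerFib φ pi).toEquiv, Nat.card_prod, h2, h3, h5, pow_two]
    exact absurd (h6 ▸ H64.O73Upper.card_ker_le (pce_fib hφ hπ h) (IsPGroup.of_card h6)) (by decide)
  have h6 : e.symm zz ∈ center K := by rw [← h2, MonoidHom.mem_ker, ← he, e.apply_symm_apply, pi_zz]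
  obtain ⟨χ, h7, h8, h9⟩ := chi
  refine ⟨_, rfl, ⟨_, ODD.Red.isIrr_comp' e.toMonoidHom e.surjective h7⟩,
    T.faith_of_prime Nat.prime_three h3 h6 fun h10 => h9 ?_,
    Blocks.Basic.charDegree_of_eq ((congrArg χ (map_one e)).trans h8)⟩
  exact (congrArg χ (e.apply_symm_apply zz)).symm.trans (h10.trans (congrArg χ (map_one e)))

theorem cov : Cov XP 3 2 H8 := fun K _ _ σ _ _ D H hc => by
  have : Fact (Nat.Prime 2) := ⟨Nat.prime_two⟩
  by_cases h : 2 ^ 4 ∣ Nat.card D
  · obtain ⟨_, rfl, χ, h1, h2⟩ := dg378 K σ H.qs H.surj H.ker hc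
    refine H.not_XP (rb _ H.locB (H.ce.dvd_map h)) χ h1 (rb.top H.ce H.hM χ ?_) (h2 ▸ by decide)
    rw [h2, card_H8]
    decide +kernel
  · exact C1.not_XP_eight H h

/-- **the row of `3.Ω₇(3)`** -/
theorem o73 (F : Type) [Field F] [Fintype F] (hF : Fintype.card F = 3) : Cov XP 3 2 (POmega F (quadFormOdd 3 F)) :=
  (MK.S7.O7.iso_H8 F hF).elim fun e => cov.of_equiv e

theorem rb_o73 (F : Type) [Field F] [Fintype F] (hF : Fintype.card F = 3) : RB 2 4 (POmega F (quadFormOdd 3 F)) :=
  have := MK.S7.O7.fin8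
  have : Fact (Nat.Prime 2) := ⟨Nat.prime_two⟩
  (MK.S7.O7.iso_H8 F hF).elim fun e => have := Finite.of_equiv _ e.symm.toEquiv; rb.congr e.symm

end Cfsg.Agent.BZ.X.O7
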