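import Cfsg.Agent.BZ.X.Main
import Cfsg.Agent.BZ.X.O73

/-!
# BZ, the row of `Ω₇(3)` at the prime two (helper84)
-/

set_option autoImplicit false

namespace Cfsg.Agent.BZ.X

open Cfsg Cfsg.Lie Subgroup Cfsg.Agent.BZ.T

theorem one_four {S : Type} [Group S] (h : RB 2 4 S) : Cov XP 1 2 S := fun K _ _ σ M B D H hc => by
  have : Fact (Nat.Prime 2) := ⟨Nat.prime_two⟩
  by_cases h4 : 2 ^ 4 ∣ Nat.card D
  · have h1 := h _ H.locB (H.ce.dvd_map h4)
    obtain ⟨P, rfl⟩ := H.ce.syl_of_rt H.hM H.hB H.hD h1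
    exact One.not_xp H h1 hc (One.bd_two P H.nab)
  · exact C1.not_XP_eight H h4

/-- **`Ω₇(3)`, `p = 2`** -/
theorem row_o73 (F : Type) [Field F] [Fintype F] (hF : Fintype.card F = 3) : RowP 2 (POmega F (quadFormOdd 3 F)) :=
  row_two (S2095.result hF) (by decide) dv12 (one_four (O7.rb_o73 F hF)) (O7.o73 F hF)

end Cfsg.Agent.BZ.X
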