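import Cfsg.Agent.BZ.C6.Eng
import Cfsg.Agent.TAB.F42.Tab
import Cfsg.Agent.H447.CTabLam
import Cfsg.Agent.H679.Lin

/-!
# BZ, the cover `2.F₄(2)`: from a faithful character of degree at most 52 to the degree 46800 (helper20; plan of helper84)
-/

set_option autoImplicit false
set_option maxRecDepth 100000

namespace Cfsg.Agent.BZ.X.F42

open Cfsg Subgroup Cfsg.Agent.Characters.Core Cfsg.Agent.OddOrderCharacters.VChar Cfsg.Agent.TAB Cfsg.Agent.TAB.Eng
open Cfsg.Agent.TAB.Use Cfsg.Agent.TAB.F42 Cfsg.Agent.BZ.C6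
open scoped ComplexConjugate

/-- the values of the row `j` -/
noncomputable def vF (j t : ℕ) : ℤ := nth (Sm2.rw' rA rB j) t

/-- the square of the character of degree 52 -/
noncomputable def qF (t : ℕ) : ℤ := 1 + vF 4 t + vF 5 t

theorem cF1 : (∀ t < D.n, vF 0 t = 1) ∧ 6 ≤ degL.length ∧ (∀ j < degL.length, 6 ≤ j → 2704 < degL.getD j 0) ∧ vF 1 0 = 833 ∧ vF 2 0 = 1105 ∧
    vF 3 0 = 1105 ∧ vF 4 0 = 1326 ∧ vF 5 0 = 1377 ∧ vF 1 1 = -63 ∧ vF 1 69 = 1 ∧ vF 2 69 = 0 ∧ vF 3 69 = 0 ∧ vF 4 69 = 0 ∧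
    vF 5 69 = -1 ∧ D.pwf 69 2 = 69 ∧ 69 < D.n := by decide +kernel

theorem cF2 : ipF D (fun t => qF t * (vF 4 t + vF 5 t - 2)) (fun t => vF 4 t + vF 5 t - 2) = D.N * 7 := by decide +kernel

theorem cF3 : ipF D (fun t => qF (D.pwf t 3) * 1) (fun _ => 1) = D.N * 4 := by decide +kernel

theorem cF4 : ∀ (d : Fin 53) (a : Fin 4) (b c e : Fin 3) (f : Fin 2),
    d.1 * d.1 = 1 + 833 * a.1 + 1105 * b.1 + 1105 * c.1 + 1326 * e.1 + 1377 * f.1 →
      d.1 = 1 ∨ (a.1 = 3 ∧ b.1 + c.1 + e.1 + f.1 = 0) ∨ (d.1 = 52 ∧ a.1 + b.1 + c.1 = 0 ∧ e.1 = 1 ∧ f.1 = 1) := by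
  decide +kernel

variable {K S : Type} [Group K] [Fintype K] [Group S] {T : TD S D} {σ : K →* S} {z : K}

theorem rowF (h : TAB.F42.Hyp T) : ∃ χ : ℕ → S → ℂ,
    Enum S degL.length (fun j => degL.getD j 0) χ ∧ ∀ j < 6, ∀ g, χ j g = vF j (T.ty g) := by
  obtain ⟨χ, hE, hR⟩ := tab_of h
  refine ⟨χ, deg_eq ▸ hE, fun j hj g => ?_⟩
  have h1 := hR ([(j, 1)], Sm2.rw' rA rB j) (List.mem_append_left _ (List.mem_map.2
    ⟨j, List.mem_range.2 (hj.trans (by decide)), rfl⟩)) g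
  rw [← nth_eq] at h1
  simpa [vF] using h1

/-- the even characters of small degree -/
theorem decF (h : TAB.F42.Hyp T) (hs : Function.Surjective σ) (hk : ∀ g, σ g = 1 ↔ g = 1 ∨ g = z) {f : K → ℂ}
    (hf : IsCharacter K f) (hz : ∀ g, f (g * z) = f g) {e : ℕ} (he : f 1 = e) (h1 : e ≤ 2704) :
    ∃ a b c d i j : ℕ, (∀ g, f g = ((a + b * vF 1 (T.ty (σ g)) + c * vF 2 (T.ty (σ g)) + d * vF 3 (T.ty (σ g)) +
      i * vF 4 (T.ty (σ g)) + j * vF 5 (T.ty (σ g)) : ℤ) : ℂ)) ∧ classInner f 1 = a ∧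
      e = a + 833 * b + 1105 * c + 1105 * d + 1326 * i + 1377 * j := by
  have := h.finite
  have := Fintype.ofFinite S
  obtain ⟨χ, hE, hχ⟩ := rowF h
  obtain ⟨c0, c1, c2, d1, d2, d3, d4, d5, -⟩ := cF1
  obtain ⟨P, hP, h3⟩ := descend σ hs hf fun g k hk' => by
    rcases (hk k).1 hk' with rfl | rfl
    · rw [mul_one]
    · exact hz g
  obtain ⟨m, h4⟩ := small hE hP (e := e) (k := 6) (by rw [← map_one σ, ← h3, he]) c1 fun j hj h => h1.trans_lt (c2 j hj h)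
  have h5 : ∀ g, f g = ((m 0 + m 1 * vF 1 (T.ty (σ g)) + m 2 * vF 2 (T.ty (σ g)) + m 3 * vF 3 (T.ty (σ g)) +
      m 4 * vF 4 (T.ty (σ g)) + m 5 * vF 5 (T.ty (σ g)) : ℤ) : ℂ) := fun g => by
    rw [h3, h4]
    simp only [Finset.sum_range_succ, Finset.sum_range_zero, hχ 0 (by norm_num), hχ 1 (by norm_num), hχ 2 (by norm_num),
      hχ 3 (by norm_num), hχ 4 (by norm_num), hχ 5 (by norm_num), c0 _ (T.lt _)]
    push_cast
    ring
  refine ⟨m 0, m 1, m 2, m 3, m 4, m 5, h5, ?_, ?_⟩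
  · have h6 : χ 0 = 1 := funext fun g => by rw [hχ 0 (by norm_num), c0 _ (T.lt _), Int.cast_one, Pi.one_apply]
    have h7 : P = ∑ j ∈ Finset.range 6, (m j : ℂ) • χ j := funext fun g => by
      simpa only [Finset.sum_apply, Pi.smul_apply, smul_eq_mul] using h4 g
    rw [show f = P ∘ σ from funext h3, show (1 : K → ℂ) = χ 0 ∘ σ by rw [h6]; rfl, H829.GowDesc.classInner_comp_surj σ hs,
      h7, classInner_sum_left, Finset.sum_eq_single 0, classInner_smul_left, classInner_irr_self (hE.irr 0 (by omega)),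
      mul_one]
    · intro j hj hne
      have hj' := (Finset.mem_range.1 hj).trans_le c1
      rw [classInner_smul_left, classInner_irr_ne (hE.irr j hj') (hE.irr 0 (by omega))
        fun e => hne (hE.inj _ hj' _ (by omega) e), mul_zero]
    · exact fun h => absurd (Finset.mem_range.2 (by norm_num)) h
  · have h6 := h5 1
    rw [he, map_one, ty_one, d1, d2, d3, d4, d5] at h6
    have h7 := Int.cast_injective (α := ℂ) ((Int.cast_natCast e).trans h6)
    omega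

theorem inner_mul (χ ψ : K → ℂ) : classInner (χ * fun g => conj (ψ g)) 1 = classInner χ ψ := by
  rw [classInner_def, classInner_def]
  simp only [Pi.mul_apply, Pi.one_apply, map_one, mul_one]

/-- **the degree 46800** -/
theorem deg (h : TAB.F42.Hyp T) (hs : Function.Surjective σ) (hk : ∀ g, σ g = 1 ↔ g = 1 ∨ g = z) (hc : z ∈ center K)
    (h2 : z * z = 1) (hp : commutator K = ⊤) {χ : K → ℂ} (hχ : IsIrrCharacter K χ) (hz : ∀ g, χ (g * z) = -χ g) {d : ℕ}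
    (hd : χ 1 = d) (h52 : d ≤ 52) : ∃ η : K → ℂ, IsIrrCharacter K η ∧ η z = -η 1 ∧ η 1 = (46800 : ℕ) := by
  have := h.finite
  obtain ⟨-, -, -, d1, d2, d3, d4, d5, e1, f1, f2, f3, f4, f5, f6, f7⟩ := cF1
  have hX := isIrr_isCharacter hχ
  have hσz : ∀ g, σ (g * z) = σ g := fun g => by rw [map_mul, (hk z).2 (.inr rfl), mul_one]
  have hinh : ∀ t < D.n, ∃ g, T.ty (σ g) = t := fun t ht => by
    obtain ⟨s, h⟩ := h.inh t ht
    obtain ⟨g, rfl⟩ := hs s
    exact ⟨g, h⟩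
  have hpw : ∀ g n, (g * z) ^ n = g ^ n * z ^ n := fun g n => (show Commute g z from mem_center_iff.1 hc g).mul_pow n
  -- the degree and the square
  obtain ⟨rfl, hq⟩ : d = 52 ∧ ∀ g, χ g * conj (χ g) = qF (T.ty (σ g)) := by
    obtain ⟨a, b, c, c', i, j, h3, h4, h5⟩ := decF h hs hk (isCharacter_mul hX (isCharacter_conj hX))
      (fun g => by simp only [Pi.mul_apply, hz, map_neg, neg_mul_neg]) (e := d * d)
      (by rw [Pi.mul_apply, hd, map_natCast, Nat.cast_mul]) (by nlinarith)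
    rw [inner_mul, classInner_irr_self hχ] at h4
    obtain rfl : a = 1 := by exact_mod_cast h4.symm
    have h6 : d * d ≤ 2704 := by nlinarith
    have h7 := cF4 ⟨d, by omega⟩ ⟨b, by omega⟩ ⟨c, by omega⟩ ⟨c', by omega⟩ ⟨i, by omega⟩ ⟨j, by omega⟩ h5
    dsimp only at h7
    obtain rfl | ⟨rfl, rfl, rfl, rfl, rfl⟩ | ⟨rfl, rfl, rfl, rfl, rfl, rfl⟩ : d = 1 ∨ (b = 3 ∧ c = 0 ∧ c' = 0 ∧ i = 0 ∧ j = 0) ∨
        (d = 52 ∧ b = 0 ∧ c = 0 ∧ c' = 0 ∧ i = 1 ∧ j = 1) :=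
      h7.imp_right fun h => h.imp (fun h => by omega) fun h => by omega
    · have h7 := hz 1
      rw [one_mul, H679.linear_apply_eq_one hχ (hd.trans Nat.cast_one) (hp ▸ mem_top z), hd] at h7
      norm_num at h7
    · obtain ⟨g, hg⟩ := hinh 1 (by omega)
      have h7 := congrArg Complex.re (h3 g)
      rw [Pi.mul_apply, Complex.mul_conj, hg, e1, Complex.ofReal_re, Complex.intCast_re] at h7
      have h8 := Complex.normSq_nonneg (χ g)
      norm_num [h7] at h8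
    · exact ⟨rfl, fun g => (h3 g).trans (by rw [qF]; push_cast; ring)⟩
  have hr : ∀ g, conj (χ g) = χ g := by
    by_contra h3
    obtain ⟨a, b, c, c', i, j, -, h4, h5⟩ := decF h hs hk (isCharacter_mul hX hX)
      (fun g => by simp only [Pi.mul_apply, hz, neg_mul_neg]) (e := 2704) (by rw [Pi.mul_apply, hd]; norm_num) le_rfl
    rw [show χ * χ = χ * fun g => conj (conj (χ g)) by simp only [Complex.conj_conj], inner_mul,
      classInner_irr_ne hχ (isIrr_conj hχ) fun e => h3 fun g => (congrFun e g).symm] at h4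
    obtain rfl : a = 0 := by exact_mod_cast h4.symm
    omega
  have hq' : ∀ g, χ g * χ g = qF (T.ty (σ g)) := fun g => by rw [← hq, hr]
  have hz2 : z ^ 2 = 1 := (pow_two z).trans h2
  have hL : ∀ g, χ (g ^ 2) = χ g * χ g - 2 * vF 4 (T.ty (σ g)) := by
    obtain ⟨a, b, c, c', i, j, h3, -, h5⟩ := decF h hs hk (H447.CTab.ext_two hX)
      (fun g => by simp only [hpw, hz2, mul_one, hz, neg_mul_neg]) (e := 1326) (by simp only [one_pow, hd]; norm_num)
      (by norm_num)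
    obtain ⟨g, hg⟩ := hinh 69 f7
    have h6 : ∀ g, T.ty (σ g) = 69 → χ g = 0 := fun g hg => mul_self_eq_zero.1 (by rw [hq', hg, qF, f4, f5]; norm_num)
    have h7 := h3 g
    rw [h6 g hg, h6 (g ^ 2) (by rw [map_pow, T.pow, hg, f6]), hg, f1, f2, f3, f4, f5] at h7
    have h8 : (0 : ℤ) = a + b * 1 + c * 0 + c' * 0 + i * 0 + j * -1 := by
      refine Int.cast_injective (α := ℂ) (Eq.trans ?_ h7)
      norm_num
    obtain ⟨rfl, rfl, rfl, rfl, rfl, rfl⟩ : a = 0 ∧ b = 0 ∧ c = 0 ∧ c' = 0 ∧ i = 1 ∧ j = 0 := by omega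
    intro g
    have h9 := h3 g
    push_cast at h9
    linear_combination -2 * h9
  -- the virtual characters
  obtain ⟨φ, hE, hφ⟩ := rowF h
  have hrow : ∀ j < 6, IsGeneralizedCharacter K fun g => (vF j (T.ty (σ g)) : ℂ) := fun j hj => by
    have h3 := gen_comp σ (gen_of_irr (hE.irr j (hj.trans_le cF1.2.1)))
    rwa [show φ j ∘ σ = _ from funext fun g => hφ j hj (σ g)] at h3
  have n1 := inner_psi (u := fun t => vF 4 t + vF 5 t - 2) (v := fun t => vF 4 t + vF 5 t - 2) h.1 σ hs hq cF2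
  have n2 := inner_psi (ψ := fun g => χ (g ^ 3)) (q := fun t => qF (D.pwf t 3))
    (u := fun _ => 1) (v := fun _ => 1) h.1 σ hs (fun g => by rw [hq, map_pow, T.pow]) cF3
  obtain ⟨γ, hγ⟩ : ∃ γ : K → ℂ, (fun g => χ g * ((vF 4 (T.ty (σ g)) + vF 5 (T.ty (σ g)) - 2 : ℤ) : ℂ)) = γ := ⟨_, rfl⟩
  obtain ⟨τ, hτ⟩ : ∃ τ : K → ℂ, (fun g => χ (g ^ 3) * ((1 : ℤ) : ℂ)) = τ := ⟨_, rfl⟩
  rw [hγ] at n1
  rw [hτ] at n2
  replace hγ := fun g => (congrFun hγ g).symm
  replace hτ := fun g => (congrFun hτ g).symm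
  have g1 := gen_of_char hX
  have g2 : IsGeneralizedCharacter K γ := by
    have h3 := gen_sub (gen_sub (gen_add (gen_mul g1 (hrow 4 (by norm_num))) (gen_mul g1 (hrow 5 (by norm_num)))) g1) g1
    refine (funext fun g => ?_ : _ = γ) ▸ h3
    simp only [Pi.sub_apply, Pi.add_apply, Pi.mul_apply, hγ]
    push_cast
    ring
  obtain ⟨η, g3, hη⟩ : ∃ η : K → ℂ, IsGeneralizedCharacter K η ∧ τ = γ - (3 : ℂ) • η :=
    ⟨_, gen_sub (gen_sub (gen_mul g1 (hrow 4 (by norm_num))) g1) (gen_of_char (H447.CTab.ext_three hX)), funext fun g => by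
      have h3 := hq' g
      simp only [Pi.sub_apply, Pi.mul_apply, Pi.smul_apply, smul_eq_mul, hγ, hτ, hL, qF] at h3 ⊢
      push_cast at h3 ⊢
      linear_combination χ g * h3⟩
  obtain ⟨n, hn⟩ := gen_inner g3 g3
  obtain ⟨k, hk1⟩ := gen_inner g2 g3
  have hk2 : classInner η γ = k := by rw [← classInner_conj_symm, hk1, map_intCast]
  have h3 := classInner_self_re_nonneg η
  have h4 := classInner_self_re_nonneg ((2 : ℂ) • γ - (3 : ℂ) • η)
  rw [hη] at n2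
  simp only [classInner_sub_left, classInner_sub_right, classInner_smul_left, classInner_smul_right, n1, hn, hk1, hk2,
    map_ofNat] at n2 h4
  rw [hn, Complex.intCast_re, Int.cast_nonneg_iff] at h3
  rw [show (2 : ℂ) * (2 * (7 : ℤ) - 3 * k) - 3 * (2 * k - 3 * n) = ((28 - 12 * k + 9 * n : ℤ) : ℂ) by
    push_cast; ring, Complex.intCast_re, Int.cast_nonneg_iff] at h4
  have h5 : 7 - 6 * k + 9 * n = 4 := Int.cast_injective (α := ℂ) (by push_cast at n2 ⊢; linear_combination n2)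
  obtain rfl : n = 1 := by omega
  have h6 : ∀ g, η g = (γ g - τ g) / 3 := fun g => by
    rw [hη, Pi.sub_apply, Pi.smul_apply, smul_eq_mul]
    ring
  have h7 : η 1 = (46800 : ℕ) := by
    simp only [h6, hγ, hτ, map_one, ty_one, one_pow, hd, d4, d5]
    norm_num
  refine ⟨η, irr_of_norm1 g3 (hn.trans Int.cast_one) h7, ?_, h7⟩
  have h8 := hz 1
  have h9 := hσz 1
  rw [one_mul] at h8 h9
  simp only [h6, hγ, hτ, one_pow, pow_succ z 2, hz2, one_mul, h8, h9]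
  ring

end Cfsg.Agent.BZ.X.F42
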