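import Cfsg.Agent.BZ.X.Defs
import Cfsg.Agent.H435.S8.CovTwo
import Cfsg.Agent.H509.RIM.GTwo

/-!
# BZ, the cover `2.G₂(4)` (helper43)

* `dg_model` : a faithful degree of one double cover, if the multiplier has order two; `dg_g24`.
-/

set_option autoImplicit false
set_option maxHeartbeats 400000
set_option linter.unusedSectionVars false

namespace Cfsg.Agent.BZ.X.G24

open Cfsg Cfsg.Lie Subgroup Cfsg.Agent.H51.Mult Cfsg.Agent.Characters.Core Cfsg.Agent.H419.LeechIrr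
open Cfsg.Agent.H509.RIM Cfsg.Agent.H678.PV.CoThreeFive Cfsg.Agent.SporadicA Cfsg.Agent.SporadicStructure
open Cfsg.Agent.Blocks.Basic

/-- a faithful degree of one double cover -/
theorem dg_model {S Γ : Type} [Group S] [Group Γ] [Finite Γ] (hA : HasCyclicSchurMultiplier S 2) {σ : Γ →* S} (hσ : PCE σ)
    {z : Γ} (hz1 : z ≠ 1) (hker : ∀ g : Γ, σ g = 1 ↔ g = 1 ∨ g = z) {χ : Γ → ℂ} (hχ : IsIrrCharacter Γ χ)
    (hl : χ z = - χ 1) : Dg 2 S (· = charDegree χ) := fun K _ _ τ h1 h2 h3 h4 => by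
  let e := (QuotientGroup.quotientMulEquivOfEq h3.symm).trans (QuotientGroup.quotientKerEquivOfSurjective τ h2)
  have := h1.2
  have : IsSimpleGroup S := e.symm.isSimpleGroup
  obtain ⟨ψ, h5, ⟨v, hv, h6⟩, h7⟩ := H435.S8.exists_chi (MulEquiv.refl S) hA
    (by rw [Nat.card_congr Multiplicative.toAdd, Nat.card_zmod]) hσ hz1 hker hχ hl (center K) h4 le_rfl
    h1.1.commutator_eq_top ⟨e⟩
  exact ⟨_, rfl, ⟨ψ, h5⟩, T.faith_of_prime Nat.prime_two h4 hv h6,
    charDegree_of_eq (h7.trans (irr_one_eq_charDegree hχ))⟩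

/-- a constituent whose degree is not divisible by `n` -/
theorem exists_not_dvd {G : Type} [Group G] [Fintype G] {ψ : G → ℂ} (hψ : IsCharacter G ψ) {d n : ℕ} (hd : ψ 1 = d)
    (hn : ¬ n ∣ d) : ∃ χ : G → ℂ, IsIrrCharacter G χ ∧ classInner ψ χ ≠ 0 ∧ ¬ n ∣ charDegree χ := by
  classical
  have := finite_irr (G := G)
  have := Fintype.ofFinite (IrrCharacter G)
  obtain ⟨m, hm⟩ := exists_nat_comb hψ
  by_contra! h
  have h1 : ((∑ ξ : IrrCharacter G, m ξ * charDegree (ξ : G → ℂ) : ℕ) : ℂ) = d := by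
    rw [← hd, hm, Finset.sum_apply, Nat.cast_sum]
    exact Finset.sum_congr rfl fun ξ _ => by rw [Pi.smul_apply, irr_one_eq_charDegree ξ.2, nsmul_eq_mul, Nat.cast_mul]
  refine hn (Nat.cast_injective h1 ▸ Finset.dvd_sum fun ξ _ => ?_)
  by_cases h2 : m ξ = 0
  · rw [h2, zero_mul]
    exact dvd_zero n
  · exact (h ξ ξ.2 (by rw [hm, classInner_sum_nsmul_irr]; exact Nat.cast_ne_zero.2 h2)).mul_left _

theorem inner_zero {G : Type} [Group G] [Finite G] (f : G →* Co0) {x : G} (hx : orderOf x = 13) (ht : lchi f x = -2)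
    [Fintype (zpowers x)] : classInner (fun y : zpowers x => lchi f y) 1 = 0 := by
  classical
  have hc : Nat.card (zpowers x) = 13 := by rw [Nat.card_zpowers, hx]
  have h1 : ∀ y : zpowers x, y ≠ 1 → lchi f y = -2 := fun y hy => by
    obtain ⟨j, hj⟩ := mem_powers_iff_mem_zpowers.2 y.2
    have h2 : j.Coprime (Nat.card (zpowers x)) := hc ▸ ((Nat.Prime.coprime_iff_not_dvd (by norm_num)).2 fun h => hy
      (Subtype.ext (hj.symm.trans (orderOf_dvd_iff_pow_eq_one.1 (hx ▸ h))))).symm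
    rw [← ht, ← hj]
    exact (Characters.GaloisBasic.exists_rat_iff (isCharacter_lchi (f.comp (zpowers x).subtype)) ⟨x, mem_zpowers x⟩).1
      (lchi_rat _ _) j h2
  rw [Characters.Core.classInner_def, ← Finset.add_sum_erase _ _ (Finset.mem_univ 1), Finset.sum_congr rfl fun y hy => by
    rw [h1 y (Finset.ne_of_mem_erase hy), Pi.one_apply, map_one, mul_one], Finset.sum_const,
    Finset.card_erase_of_mem (Finset.mem_univ _), Finset.card_univ, ← Nat.card_eq_fintype_card, hc, OneMemClass.coe_one,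
    lchi_one, Pi.one_apply, map_one]
  norm_num

theorem lchi_neg {G : Type} [Group G] (f : G →* Co0) {z : G} (hz : f z = Co0Basic.negCo0) (g : G) :
    lchi f (g * z) = -lchi f g := by
  have h3 : Co2Type.Mono.tr8 (f g * Co0Basic.negCo0) = -Co2Type.Mono.tr8 (f g) := by
    rw [mem_center_iff.1 Co0Basic.negCo0_mem_center (f g)]
    unfold Co2Type.Mono.tr8
    rw [← Finset.sum_neg_distrib]
    refine Finset.sum_congr rfl fun i _ => ?_
    rw [mul_smul]
    show ((Co0Basic.negCo0.1 (f g • Co0Base.e8 i) : leechLattice) : GolayPt → ℤ) i = _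
    rw [Co0Basic.negCo0_apply]
    rfl
  rw [lchi, lchi, map_mul, hz, h3, Int.cast_neg, neg_div]

/-- **`2.G₂(4)`** -/
theorem dg_g24 : ∀ (F : Type) [Field F] [Fintype F], Fintype.card F = 4 →
    Dg 2 ↥(chevG2.group F) fun m => 3 ∣ m ∧ ¬ 9 ∣ m := fun F _ _ hF => by
  obtain ⟨e⟩ := StdG24.Iso6.equiv_chev F hF
  obtain ⟨Γ, _, _, σ, z, x, k, f, h1, h2, hfz, hx, hk, ht⟩ := GTwo.exists_data_L
  have := Fintype.ofFinite Γ
  have := Fintype.ofFinite (zpowers x)
  obtain ⟨χ, h3, h4, h5⟩ := exists_not_dvd (isCharacter_lchi f) (d := 24) (n := 9) (lchi_one f) (by norm_num)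
  have h6 := H509.QS.GTwo.Dbl.congr h2 (KFacts.Co1D4.GTwo.φ.symm.trans e)
  have h7 := sign_of_inner (h2.cen h2.hz) (lchi_neg f hfz) h3 h2.zz h4 1
  rw [one_mul] at h7
  exact (dg_model (S2102.result hF) (h1.congr _) h2.z1 (fun g => ⟨h6.mem g, fun h => h.elim (fun h => h ▸ map_one _)
    fun h => h ▸ h6.hz⟩) h3 h7).mono fun m hm => hm ▸ ⟨three_dvd hx hk h3 (sum_pow_eq_zero hx
      (inner_res_eq_zero (isCharacter_lchi f) (inner_zero f hx ht) h3 h4)), h5⟩

end Cfsg.Agent.BZ.X.G24
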