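import Cfsg.Agent.BZ.X.Defs
import Cfsg.Agent.MK.U43.GH
import Cfsg.Agent.BHZ.Spor.CTools
import Cfsg.Agent.S0144

/-!
# BZ, the triple covers of `U₄(3)`, `p = 2` (helper42)

Nine good classes with a centraliser of even order, and an element of order eight with a cyclic centraliser.
-/

set_option autoImplicit false
set_option maxRecDepth 100000

namespace Cfsg.Agent.BZ.X.U4

open Cfsg Cfsg.Lie Subgroup Cfsg.Agent.BZ.T Cfsg.Agent.BHZ.Spor Cfsg.Agent.TwoF.XL.U43 Cfsg.Agent.MK.U43.GT
open Cfsg.Agent.MK.U43.GH Cfsg.Agent.MK.U43.GI Cfsg.Agent.H86.TI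
open scoped commutatorElement

/-- the image of the centraliser of a lift is large -/
theorem gd_of_idx {K S : Type} [Group K] [Finite K] [Group S] {σ : K →* S} (hc : σ.ker ≤ center K)
    (hs : Function.Surjective σ) {a : K} {n m : ℕ} (h : Nat.card (centralizer ({σ a} : Set S)) = n * m)
    (hm : m.Coprime (Nat.card σ.ker)) (hn : n ∣ Nat.card ((centralizer ({a} : Set K)).map σ)) : Gd σ (σ a) := by
  have := Finite.of_surjective σ hs
  have h0 : ∀ b : (centralizer ({σ a} : Set S)).comap σ, Commute (σ a) (σ b) := fun b =>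
    (mem_centralizer_singleton_iff.1 b.2).symm
  let f : (centralizer ({σ a} : Set S)).comap σ →* σ.ker :=
    MonoidHom.mk' (fun b => ⟨⁅a, (b : K)⁆, map_comm_eq_one (h0 b)⟩) fun b c => Subtype.ext (comm_mul_right hc (h0 c))
  have h1 : f.ker.index ∣ Nat.card σ.ker := by
    rw [index_ker]
    exact card_subgroup_dvd_card _
  have h2 : centralizer ({a} : Set K) ≤ f.ker.map (Subgroup.subtype _) := fun x hx =>
    have h3 : Commute x a := mem_centralizer_singleton_iff.1 hx
    ⟨⟨x, mem_centralizer_singleton_iff.2 (h3.map σ)⟩, Subtype.ext (commutatorElement_eq_one_iff_commute.2 h3.symm), rfl⟩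
  have h3 := card_dvd_of_le h2
  rw [card_map_of_injective (subtype_injective _), ← comap_map_eq_self (hc.trans (center_le_centralizer ({a} : Set K))),
    card_comap hs] at h3
  obtain ⟨k, hk⟩ := (Nat.mul_dvd_mul_left _ hn).trans h3
  have h4 := card_mul_index f.ker
  rw [card_comap hs, h, hk, ← mul_assoc, mul_assoc _ k] at h4
  have h5 : 0 < Nat.card σ.ker * n := Nat.mul_pos Nat.card_pos (Nat.pos_of_ne_zero fun e => by
    rw [e, zero_mul] at h
    exact Nat.card_pos.ne' h)
  have h6 := index_eq_one.1 (Nat.eq_one_of_dvd_coprimes hm (Dvd.intro_left _ (Nat.eq_of_mul_eq_mul_left h5 h4)) h1)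
  intro c b e hb
  rw [e] at hb
  have h7 : Commute a b := commutatorElement_eq_one_iff_commute.1 (congrArg Subtype.val
    (show f ⟨b, mem_centralizer_singleton_iff.2 hb.symm⟩ = 1 from h6.ge (mem_top _)))
  have h8 : a⁻¹ * c ∈ center K := hc (by rw [MonoidHom.mem_ker, map_mul, map_inv, e, inv_mul_cancel])
  rw [← mul_inv_cancel_left a c]
  exact h7.mul_left (mem_center_iff.1 h8 b).symm

theorem nine_dvd {S : Type} [Group S] [Finite S] {a b : S} (ha : orderOf a = 3) (hb : orderOf b = 3) (hab : Commute a b)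
    (h : b ∉ zpowers a) {N : Subgroup S} (h1 : a ∈ N) (h2 : b ∈ N) : 9 ∣ Nat.card N := by
  have hc : ∀ (x : zpowers a) (y : zpowers b), Commute ((zpowers a).subtype x) ((zpowers b).subtype y) := by
    rintro ⟨_, i, rfl⟩ ⟨_, j, rfl⟩
    exact hab.zpow_zpow i j
  have h3 := (MonoidHom.noncommCoprod_injective _ _ hc).2 ⟨subtype_injective _, subtype_injective _, by
    rw [range_subtype, range_subtype, disjoint_iff]
    have h4 := card_dvd_of_le (inf_le_right : zpowers a ⊓ zpowers b ≤ zpowers b)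
    rw [Nat.card_zpowers, hb, Nat.dvd_prime Nat.prime_three] at h4
    refine card_eq_one.1 (h4.resolve_right fun e => h ?_)
    exact ((eq_of_le_of_card_ge (inf_le_right : zpowers a ⊓ zpowers b ≤ zpowers b)
      (by rw [e, Nat.card_zpowers, hb])).ge (mem_zpowers b)).1⟩
  have h4 := card_dvd_of_le (show (MonoidHom.noncommCoprod _ _ hc).range ≤ N by
    rw [MonoidHom.noncommCoprod_range, range_subtype, range_subtype]
    exact sup_le (zpowers_le.2 h1) (zpowers_le.2 h2))
  rwa [← Nat.card_congr (MonoidHom.ofInjective h3).toEquiv, Nat.card_prod, Nat.card_zpowers, Nat.card_zpowers, ha,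
    hb] at h4

theorem ord_of {y : M} {i : Fin 20} (h : IsConj (tab.x i) y) : E.o.getD i 0 = orderOf y :=
  (ord_rep i.2).symm.trans (TAB.Sm1.order_conj h)

/-- the centralisers of the involutions are constrained -/
theorem r0 : R0 2 M := by
  have h2 := Fact.mk Nat.prime_two
  refine r0_of_constr fun y hy => ?_
  obtain ⟨i, hi⟩ := tab.cover y
  obtain rfl := (by decide : ∀ i : Fin 20, E.o.getD i 0 = 2 → i = 1) i ((ord_of hi).trans hy)
  have hc : Nat.card (centralizer ({tab.x 1} : Set M)) = 2 ^ (4 + 3) * 3 ^ 2 := tab.card 1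
  refine Constr.conj (constr_of_solvable (p := 2) (pelt_of_order (ord_of (i := 1) (IsConj.refl _)).symm)
    (S0144.result 2 3 _ 2 Nat.prime_two Nat.prime_three hc) hc (by norm_num) (by norm_num) fun t h7 h8 _ h9 => ?_) hi
  obtain ⟨j, hj⟩ := tab.cover t
  rw [← card_cent_of_conj hj, tab.card j] at h9
  rw [← ord_of hj] at h7 h8
  rcases (by decide : ∀ j : Fin 20, 2 ^ 4 ∣ E.c.getD j 0 → E.o.getD j 0 = 1 ∨ E.o.getD j 0 = 2 ∨ E.o.getD j 0 = 4) j h9
    with e | e | e
  · exact absurd (e ▸ h7) (by norm_num)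
  · exact h8 e
  · exact absurd (e ▸ h7) (by norm_num)

/-- the columns -/
def ix (k : Fin 9) : Fin 20 := [0, 1, 6, 7, 14, 19, 9, 10, 11].getD k 0

theorem good {K : Type} [Group K] [Finite K] {σ : K →* M} (h : Ext (center K) σ) (k : Fin 9) : Gd σ (tab.x (ix k)) := by
  have hc : σ.ker ≤ center K := h.ker.le
  have h3 : Nat.card σ.ker = 3 := h.ker ▸ h.card
  obtain ⟨A, B, S, T, I, J, L, eA, eB, -, eI⟩ := locW.lift h
  have ab := comm_of L.ab
  have au := (comm_of L.ai).pow_right 2
  have key : ∀ (y : K) (j : Fin 20) (m : ℕ), tab.cl (σ y) = j → E.c.getD j 0 = 9 * m → m.Coprime 3 → Commute A y →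
      Commute B y → Gd σ (tab.x j) := fun y j m e1 e2 e3 e4 e5 => by
    have e6 := tab.cl_eq_iff.1 e1
    refine (gd_of_idx hc h.surj ((card_cent_of_conj e6).symm.trans ((tab.card j).trans e2)) (h3 ▸ e3)
      (nine_dvd (orderOf_eq_prime locW.a3 (Wm_ne (l' := []) (by decide +kernel)))
        (orderOf_eq_prime locW.b3 (Wm_ne (l' := []) (by decide +kernel))) (comm_of locW.ab) ?_
        ⟨A, mem_centralizer_singleton_iff.2 e4, eA⟩ ⟨B, mem_centralizer_singleton_iff.2 e5, eB⟩)).conj h.surj e6.symm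
    rintro ⟨n, hn⟩
    have e7 := locW.q.bi
    rw [← hn, ((comm_of locW.ai).zpow_left n).eq, mul_inv_cancel_right] at e7
    exact Wm_ne (by decide +kernel) e7
  rcases (by decide : ∀ k : Fin 9, E.o.getD (ix k) 0 ∣ 8 ∨ ix k = 19 ∨ ix k = 9 ∨ ix k = 10 ∨ ix k = 11) k
    with e | e | e | e | e
  · exact gd_of_coprime hc (orderOf_dvd_iff_pow_eq_one.1 (ord_of (IsConj.refl _) ▸ e)) (by rw [h3]; norm_num)
  · rw [e]
    exact gd_of_cyc hc h.surj (mem_zpowers _) ((tab.card 19).trans (ord_of (i := 19) (IsConj.refl _))).le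
  · rw [e]
    refine key (A * I ^ 2) 9 8 ?_ rfl (by norm_num) ((Commute.refl A).mul_right au) (ab.symm.mul_right L.bu)
    rw [map_mul, map_pow, eA, eI, ← Wm_pw, ← Wm_append]
    exact cl_word (g := [4, 3, 1, 3, 7]) (by decide +kernel)
  · rw [e]
    refine key (A * (B ^ 2 * I ^ 2)) 10 4 ?_ rfl (by norm_num) ((Commute.refl A).mul_right ((ab.pow_right 2).mul_right au))
      (ab.symm.mul_right (((Commute.refl B).pow_right 2).mul_right L.bu))
    rw [map_mul, map_mul, map_pow, map_pow, eA, eB, eI, ← Wm_pw, ← Wm_pw, ← Wm_append, ← Wm_append]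
    exact cl_word (g := [0, 2, 0, 12, 5, 3]) (by decide +kernel)
  · rw [e]
    refine key (A * (B * I ^ 2)) 11 4 ?_ rfl (by norm_num) ((Commute.refl A).mul_right (ab.mul_right au))
      (ab.symm.mul_right ((Commute.refl B).mul_right L.bu))
    rw [map_mul, map_mul, map_pow, eA, eB, eI, ← Wm_pw, ← Wm_append, ← Wm_append]
    exact cl_word (g := [2, 12, 3, 0, 4]) (by decide +kernel)

theorem covM : Cov XP 3 2 M := fun K _ _ σ _ _ _ H hc => by
  have h2 := Fact.mk Nat.prime_two
  refine H.not_XP_count r0 (u := tab.x 14) (j := 3) ?_ (fun k => tab.x (ix k)) (good ⟨H.surj, H.ker, le_rfl, hc⟩)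
    (fun i j hij e => hij ((by decide : ∀ i j : Fin 9, ix i = ix j → i = j) i j (tab.inj _ _ e))) (fun k => ?_) ?_
  · exact orderOf_dvd_iff_pow_eq_one.1 (ord_of (i := 14) (IsConj.refl _) ▸ (by decide))
  · rw [tab.card]
    exact (by decide : ∀ k : Fin 9, 2 ∣ E.c.getD (ix k) 0) k
  · rw [tab.card, Fintype.card_fin]
    decide

/-- **the triple covers of `U₄(3)`** -/
theorem u43 : ∀ (F : Type) [Field F] [Fintype F], Fintype.card F = 9 → Cov XP 3 2 (PSU 4 F 3) := fun _ _ _ hF =>
  let ⟨e⟩ := iso hF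
  covM.of_equiv e

end Cfsg.Agent.BZ.X.U4
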