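import Cfsg.Agent.BZ.T.Count
import Cfsg.Agent.BZ.C2.Main

/-!
# BZ, the exceptional covers of the groups of Lie type: the list and the glue (helper84)

* `Xc X` : the nine rows; `RB p d S` : local data of order divisible by `p ^ d` are Sylow subgroups;
* `Dg n S P` : every quasisimple cover of `S` with centre of order `n` has a faithful character whose degree satisfies `P`;
* `cov_xp`, `cov_xt` : the rows from `RB` and `Dg`.
-/

set_option autoImplicit false
set_option linter.unusedSectionVars false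

namespace Cfsg.Agent.BZ.X

open Cfsg Cfsg.Lie Subgroup Cfsg.Agent.BZ.T Cfsg.Agent.BZ.C2 Cfsg.Agent.BHZ.Spor

/-- the exceptional covers in cross characteristic -/
structure Xc (X : Bad) : Prop where
  s62 : ∀ (F : Type) [Field F] [Fintype F], Fintype.card F = 2 → Cov X 2 3 (PSp 3 F)
  o82 : ∀ (F : Type) [Field F] [Fintype F], Fintype.card F = 2 → Cov X 2 3 (POmega F (quadFormPlus 4 F))
  u62 : ∀ (F : Type) [Field F] [Fintype F], Fintype.card F = 4 → Cov X 2 3 (PSU 6 F 2)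
  g24 : ∀ (F : Type) [Field F] [Fintype F], Fintype.card F = 4 → Cov X 2 3 ↥(chevG2.group F)
  f42 : ∀ (F : Type) [Field F] [Fintype F], Fintype.card F = 2 → Cov X 2 3 ↥(chevF4.group F)
  e62 : ∀ (F : Type) [Field F] [Fintype F], Fintype.card F = 4 → Cov X 2 3 ↥(twistedE6 F 2)
  g23 : ∀ (F : Type) [Field F] [Fintype F], Fintype.card F = 3 → Cov X 3 2 ↥(chevG2.group F)
  o73 : ∀ (F : Type) [Field F] [Fintype F], Fintype.card F = 3 → Cov X 3 2 (POmega F (quadFormOdd 3 F))
  u43 : ∀ (F : Type) [Field F] [Fintype F], Fintype.card F = 9 → Cov X 3 2 (PSU 4 F 3)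

/-- large local data are Sylow subgroups -/
def RB (p d : ℕ) (S : Type) [Group S] : Prop := ∀ D : Subgroup S, LocB p D → p ^ d ∣ Nat.card D → RegTriv p D

/-- a faithful character whose degree satisfies `P` -/
def Dg (n : ℕ) (S : Type) [Group S] (P : ℕ → Prop) : Prop :=
  ∀ (K : Type) [Group K] [Finite K] (σ : K →* S), IsQuasisimple K → Function.Surjective σ → σ.ker = center K →
    Nat.card (center K) = n → ∃ m, P m ∧ Fd K m

variable {p d n : ℕ} [hp : Fact p.Prime] {S T : Type} [Group S] [Group T]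

theorem RB.mono {e : ℕ} (h : RB p d S) (hde : d ≤ e) : RB p e S := fun D hD h1 => h D hD ((pow_dvd_pow p hde).trans h1)

theorem RB.congr [Finite S] (h : RB p d T) (e : T ≃* S) : RB p d S := fun D hD h1 =>
  rt_congr e (h _ (hD.congr e) (by
    rwa [← card_map_of_injective (f := e.toMonoidHom) e.injective, map_comap_eq_self_of_surjective e.surjective]))

theorem RB.ra [Finite S] (h : RB p 3 S) : RA p S := fun D hD =>
  (em (p ^ 3 ∣ Nat.card D)).imp (h D hD) (comm_of_not_cube_dvd hD.pg)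

theorem rb_of_reg (h : Reg p d S) : RB p d S := fun _ _ => h.rt

theorem Dg.congr {P : ℕ → Prop} (h : Dg n T P) (e : S ≃* T) : Dg n S P := fun K _ _ σ h1 h2 h3 h4 =>
  h K (e.toMonoidHom.comp σ) h1 (e.surjective.comp h2) (by
    rw [← h3]
    ext x
    simp [MonoidHom.mem_ker]) h4

theorem Dg.mono {P Q : ℕ → Prop} (h : Dg n S P) (hPQ : ∀ m, P m → Q m) : Dg n S Q := fun K _ _ σ h1 h2 h3 h4 =>
  let ⟨m, h5, h6⟩ := h K σ h1 h2 h3 h4
  ⟨m, hPQ m h5, h6⟩

variable {M : Ideal AlgInt} {K : Type} [Group K] [Finite K] {σ : K →* S}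

theorem RB.top (h : RB p d S) (C : Ce p σ) (hM : IsPModular p M) (χ : IrrCharacter K)
    (h1 : (charDegree (χ : K → ℂ)).factorization p + d ≤ (Nat.card S).factorization p) : Top p M (χ : K → ℂ) := by
  have := Finite.of_surjective σ C.surj
  obtain ⟨E, hE, h2⟩ := exists_dg hM χ
    (h1.trans ((Nat.factorization_le_iff_dvd Nat.card_pos.ne' Nat.card_pos.ne').2 C.card_dvd p))
  exact C.top_of_rt hM hE (h _ ((locB_of_block hM (Blocks.Basic.isPBlock_blockOf χ) hE).quot σ C.surj C.cen) (C.dvd_map h2))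

theorem RB.rt (h : RB p 3 S) {B : Set (IrrCharacter K)} {D : Subgroup K} (H : Hyp p M B D σ) : RegTriv p (D.map σ) :=
  have := Finite.of_surjective σ H.surj
  h _ ((locB_of_block H.hM H.hB H.hD).quot σ H.surj H.ker.le) (H.ce.dvd_map H.cube_dvd)

/-- a faithful degree which is divisible by `p`, but not by a high power -/
theorem cov_xp {a : ℕ} (h : RB p d S) (hd : d ≤ 3) (h1 : Dg n S fun m => p ∣ m ∧ ¬ p ^ (a + 1) ∣ m)
    (h2 : p ^ (a + d) ∣ Nat.card S) : Cov XP n p S := fun K _ _ σ _ _ _ H hc => by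
  have := Finite.of_surjective σ H.surj
  obtain ⟨m, ⟨h3, h4⟩, χ, hf, rfl⟩ := h1 K σ H.qs H.surj H.ker hc
  refine H.not_XP ((h.mono hd).rt H) χ hf (h.top H.ce H.hM χ ?_) h3
  have h5 := (hp.out.pow_dvd_iff_le_factorization Nat.card_pos.ne').1 h2
  have h6 := mt (hp.out.pow_dvd_iff_le_factorization (Blocks.Basic.charDegree_pos χ.2).ne').2 h4
  omega

/-- two faithful degrees prime to `p` -/
theorem cov_xt {m₀ : ℕ} (h : RB p 3 S) (h0 : ¬ p ∣ m₀) (h1 : Dg n S (· = m₀)) (h2 : Dg n S fun m => ¬ p ∣ m ∧ m ≠ m₀) :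
    Cov XT n p S := fun K _ _ σ _ _ _ H hc => by
  obtain ⟨_, rfl, h3⟩ := h1 K σ H.qs H.surj H.ker hc
  obtain ⟨m, ⟨h4, h5⟩, h6⟩ := h2 K σ H.qs H.surj H.ker hc
  exact h6.xt h3 H (h.rt H) h4 h0 h5

end Cfsg.Agent.BZ.X
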