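import Cfsg.Agent.BZ.X.E62Dat
import Cfsg.Agent.BZ.X.Defs
import Cfsg.Agent.BZ.C6.Eng
import Cfsg.Agent.TAB.B.Fin.Main
import Cfsg.Agent.H66.TwESixCover
import Cfsg.Agent.H672.Ext
import Cfsg.Agent.S2493

/-!
# BZ, `2.²E₆(2)`: a faithful character of degree `45696` or `22848` (helper84)

The character of degree `96255` of the Baby Monster is restricted to the centralizer of a transposition; the norm comes from the
permutation character, whose multiplicities are found from its values on the elements of odd order.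
-/

set_option autoImplicit false
set_option linter.unusedSectionVars false

namespace Cfsg.Agent.BZ.X.E6

open Cfsg Subgroup Cfsg.Agent.Characters.Core Cfsg.Agent.OddOrderCharacters.VChar Cfsg.Agent.TAB Cfsg.Agent.TAB.Eng
open Cfsg.Agent.TAB.Use Cfsg.Agent.BZ.C6 Cfsg.Lie
open scoped ComplexConjugate Classical

section Abs

variable {S : Type} [Group S] [Fintype S] {t : S} {o : ℕ} {f : S → ℂ}

theorem sum_root (h2 : t * t = 1) (ho : Odd o) (hf : ∀ g, f g ≠ 0 → g ^ o = 1) :
    ∑ h : S, (if h ^ o = t then f (h ^ (o + 1)) else 0) = ∑ c : centralizer ({t} : Set S), f c := by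
  rw [← Equiv.sum_comp (Equiv.mulRight t), ← Finset.sum_subtype (Finset.univ.filter (· ∈ centralizer ({t} : Set S)))
    (by simp) f, Finset.sum_filter]
  refine Finset.sum_congr rfl fun h _ => ?_
  have ht : t ^ o = t := by
    obtain ⟨k, rfl⟩ := ho
    rw [pow_succ, pow_mul, pow_two, h2, one_pow, one_mul]
  show (if (h * t) ^ o = t then f ((h * t) ^ (o + 1)) else 0) = if h ∈ centralizer ({t} : Set S) then f h else 0
  by_cases h1 : (h * t) ^ o = t
  · have h3 : h * t * t = t * (h * t) := by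
      calc _ = h * t * (h * t) ^ o := by rw [h1]
        _ = _ := by rw [← pow_succ', pow_succ, h1]
    have h4 : t * (h * t) = h := by rw [← h3, mul_assoc, h2, mul_one]
    rw [if_pos h1, pow_succ, h1, h4, if_pos (mem_centralizer_singleton_iff.2 (mul_left_cancel (a := t) (by
      rw [h4, ← mul_assoc, h2, one_mul])))]
  · rw [if_neg h1]
    split_ifs with h3
    · by_contra h4
      exact h1 (by rw [(show Commute h t from mem_centralizer_singleton_iff.1 h3).mul_pow, hf h (Ne.symm h4), ht, one_mul])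
    · rfl

theorem sum_cls (h2 : t * t = 1) (ho : Odd o) (hf : ∀ g, f g ≠ 0 → g ^ o = 1) (hc : ∀ g c, f (c * g * c⁻¹) = f g)
    {A : S → Prop} (hA : ∀ u, A u ↔ IsConj t u) :
    ∑ h : S, (if A (h ^ o) then f (h ^ (o + 1)) else 0) =
      Nat.card {u // A u} * ∑ c : centralizer ({t} : Set S), f c := by
  rw [Nat.card_eq_fintype_card, Fintype.card_subtype, ← nsmul_eq_mul, ← Finset.sum_const, ← sum_root h2 ho hf,
    Finset.sum_congr rfl fun h _ => show _ = ∑ u ∈ Finset.univ.filter A, if h ^ o = u then f (h ^ (o + 1)) else 0 by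
      simp only [Finset.sum_ite_eq, Finset.mem_filter, Finset.mem_univ, true_and], Finset.sum_comm]
  refine Finset.sum_congr rfl fun u hu => ?_
  obtain ⟨c, rfl⟩ := isConj_iff.1 ((hA u).1 (Finset.mem_filter.1 hu).2)
  rw [← Equiv.sum_comp (MulAut.conj c).toEquiv]
  refine Finset.sum_congr rfl fun h _ => ?_
  simp only [MulEquiv.toEquiv_eq_coe, EquivLike.coe_coe, MulAut.conj_apply, conj_pow, hc, mul_left_inj, mul_right_inj]

/-- an even and an odd function are orthogonal -/
theorem inner_eo {φ ψ : S → ℂ} (h1 : ∀ g, φ (g * t) = -φ g) (h2 : ∀ g, ψ (g * t) = ψ g) : classInner φ ψ = 0 := by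
  have h3 := Equiv.sum_comp (Equiv.mulRight t) fun g => φ g * conj (ψ g)
  simp only [Equiv.coe_mulRight, h1, h2, neg_mul, Finset.sum_neg_distrib] at h3
  rw [classInner_def, show ∑ g, φ g * conj (ψ g) = 0 by linear_combination (-1 / 2 : ℂ) * h3, mul_zero]

/-- the odd part is irreducible -/
theorem odd_irr (hz : t ∈ center S) (h2 : t * t = 1) {χ : S → ℂ} (hχ : IsCharacter S χ) (h4 : classInner χ χ = 4)
    (h1 : classInner χ 1 = 1) (hd : χ 1 = 96255) (ht : χ t = 4863) (hn : ¬ 50558 ∣ Nat.card S) :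
    ∃ ψ, IsIrrCharacter S ψ ∧ charDegree ψ = 45696 ∧ ∀ g, ψ (g * t) = -ψ g := by
  have hP := isChar_pt hz h2 (.inl rfl) hχ
  have hQ := isChar_pt hz h2 (.inr rfl) hχ
  have e1 : ∀ g, pt t 1 χ (g * t) = pt t 1 χ g := fun g => by simp only [pt, mul_assoc, h2, mul_one]; ring
  have e2 : ∀ g, pt t (-1) χ (g * t) = -pt t (-1) χ g := fun g => by simp only [pt, mul_assoc, h2, mul_one]; ring
  have e3 : pt t 1 χ 1 - 1 = (50558 : ℕ) := by simp only [pt, one_mul, hd, ht]; norm_num
  have e4 : pt t (-1) χ 1 = (45696 : ℕ) := by simp only [pt, one_mul, hd, ht]; norm_num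
  have e5 : χ = pt t 1 χ + pt t (-1) χ := funext fun g => by simp only [pt, Pi.add_apply]; ring
  generalize pt t 1 χ = P at *
  generalize pt t (-1) χ = Q at *
  obtain ⟨a, ha⟩ := classInner_isNat hP hP
  obtain ⟨b, hb⟩ := classInner_isNat hQ hQ
  have e6 := inner_eo e2 e1
  rw [e5, classInner_add_left, inner_eo e2 fun _ => rfl, add_zero] at h1
  rw [e5, classInner_add_left, classInner_add_right, classInner_add_right, e6, classInner_comm_eq_zero e6, ha, hb,
    add_zero, zero_add] at h4
  have e7 : classInner (P - 1) (P - 1) = a - 1 := by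
    rw [classInner_sub_left, classInner_sub_right, classInner_sub_right, ha, h1, ← gen_inner_comm (gen_of_char hP) gen_one,
      h1, classInner_irr_self isIrr_one]
    ring
  have e8 : a + b = 4 := by exact_mod_cast h4
  have z1 : ∀ {R : S → ℂ} {n : ℕ}, R 1 = (n + 1 : ℕ) → classInner R R ≠ 0 := fun h h' => by
    rw [classInner_self_eq_zero h'] at h
    exact Nat.cast_add_one_ne_zero _ (by exact_mod_cast h.symm)
  have a0 : a ≠ 0 := fun h => z1 (R := P) (n := 50558) (by rw [Nat.cast_succ, ← e3]; ring) (by rw [ha, h, Nat.cast_zero])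
  have a1 : a ≠ 1 := fun h => z1 (R := P - 1) (n := 50557) e3 (by rw [e7, h]; norm_num)
  have a2 : a ≠ 2 := fun h => hn (by
    have h5 := irr_of_norm1 (gen_sub (gen_of_char hP) gen_one) (by rw [e7, h]; norm_num) e3
    exact Blocks.Basic.charDegree_of_eq (χ := P - 1) e3 ▸ H669.Basic.charDegree_dvd_card h5)
  have b0 : b ≠ 0 := fun h => z1 (n := 45695) e4 (by rw [hb, h, Nat.cast_zero])
  exact ⟨Q, isIrr_of_classInner_self hQ (by rw [hb, show b = 1 by omega, Nat.cast_one]),
    Blocks.Basic.charDegree_of_eq e4, e2⟩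

end Abs

/-- the restriction to the centralizer -/
theorem cent {S : Type} [Group S] [Fintype S] {T : TD S B.Fin.datF} (hm : T.Mass) (hT : Tab T B.Fin.tabB) {t : S}
    (h2 : t * t = 1) (hA : ∀ u, T.ty u = 1 ↔ IsConj t u)
    (hC : Nat.card (centralizer ({t} : Set S)) = 306129918735099415756800) :
    ∃ ψ, IsIrrCharacter (centralizer ({t} : Set S)) ψ ∧ charDegree ψ = 45696 ∧
      ∀ g, ψ (g * ⟨t, mem_centralizer_singleton_iff.2 rfl⟩) = -ψ g := by
  obtain ⟨χ, hE, hχ⟩ := rowB hT
  obtain ⟨d1, d2, d3, d4⟩ := c7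
  have hi : (centralizer ({t} : Set S)).index = 13571955000 := by
    have h := (centralizer ({t} : Set S)).card_mul_index
    rw [hC, hm.1, d4] at h
    omega
  obtain ⟨m, hπ⟩ := small hE (Characters.Brauer.isCharacter_indFun (centralizer ({t} : Set S)) isCharacter_one)
    (e := 13571955000) (by rw [OddOrderCharacters.InertiaAbelian.indFun_one, hi, Pi.one_apply, mul_one]) c5.1 c5.2
  have key : ∀ (f : ℕ → ℤ) (i : ℕ), (∀ j < 17, ipF B.Fin.datF (vB j) f = B.Fin.datF.N * aW i j) →
      ∑ c : centralizer ({t} : Set S), (f (T.ty c) : ℂ) =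
        306129918735099415756800 * ((∑ j ∈ Finset.range 17, m j * aW i j : ℤ) : ℂ) := fun f i h => by
    have h1 := Characters.Brauer.classInner_indFun (centralizer ({t} : Set S)) inferInstance 1
      (fun g => (f (T.ty g) : ℂ)) fun g c => by simp only [T.conj]
    rw [show indFun (centralizer ({t} : Set S)) 1 = ∑ j ∈ Finset.range 17, (m j : ℂ) • χ j from funext fun g => by
      rw [hπ, Finset.sum_apply]; rfl, classInner_sum_left, Finset.sum_congr rfl fun j hj => by
        rw [classInner_smul_left, show χ j = fun g => (vB j (T.ty g) : ℂ) from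
          funext (hχ j ((Finset.mem_range.1 hj).trans (by norm_num))), inner_of_ipF hm (h j (Finset.mem_range.1 hj))],
      classInner_def, hC, eq_inv_mul_iff_mul_eq₀ (by norm_num)] at h1
    simp only [Pi.one_apply, one_mul, map_intCast] at h1
    rw [← h1]
    push_cast
    rfl
  have hb : ∀ i < 5, ∑ j ∈ Finset.range 17, m j * aW i j = [1, 2, 1, -2, 1].getD i 0 := fun i hi => by
    have h1 := sum_cls (f := fun g => (fW i (T.ty g) : ℂ)) h2 (o := 45045) (by decide) (fun g h =>
      orderOf_dvd_iff_pow_eq_one.1 (T.ord g ▸ c3 i hi _ (T.lt g) (by exact_mod_cast h))) (fun g c => by simp only [T.conj]) hA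
    simp only [T.pow] at h1
    rw [sum_mass hm fun s => if B.Fin.datF.pwf s 45045 = 1 then (fW i (B.Fin.datF.pwf s (45045 + 1)) : ℂ) else 0,
      hm.2 1 d3, d2, key _ i (c1 i hi)] at h1
    have h3 := congrArg (Int.cast : ℤ → ℂ) (c2 i hi)
    rw [d4] at h3
    simp only [nsmul_eq_mul] at h1
    push_cast at h1 h3
    refine Int.cast_injective (α := ℂ) ?_
    push_cast
    linear_combination (h3 - h1) / (13571955000 * 306129918735099415756800)
  have h0 := key _ 5 fun j hj => (c4 j hj).1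
  have h6 := key _ 6 fun j hj => (c4 j hj).2.1
  have h7 := key _ 7 fun j hj => (c4 j hj).2.2
  rw [Finset.sum_const, Finset.card_univ, ← Nat.card_eq_fintype_card, hC] at h0
  have h8 : ∑ j ∈ Finset.range 17, m j * aW 5 j = 1 := by
    refine Int.cast_injective (α := ℂ) ?_
    simp only [nsmul_eq_mul] at h0
    push_cast at h0 ⊢
    linear_combination -h0 / 306129918735099415756800
  have h9 : ∑ j ∈ Finset.range 17, m j * aW 6 j = 1 ∧ ∑ j ∈ Finset.range 17, m j * aW 7 j = 4 := by
    have b0 := hb 0 (by norm_num)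
    have b1 := hb 1 (by norm_num)
    have b2 := hb 2 (by norm_num)
    have b3 := hb 3 (by norm_num)
    have b4 := hb 4 (by norm_num)
    simp only [Finset.sum_range_succ, Finset.sum_range_zero, aW, aL, List.getD_cons_succ, List.getD_cons_zero] at *
    omega
  rw [h9.1] at h6
  rw [h9.2] at h7
  refine odd_irr (χ := fun c => (vB 2 (T.ty c) : ℂ)) (mem_center_iff.2 fun g => Subtype.ext
    (mem_centralizer_singleton_iff.1 g.2)) (Subtype.ext h2) ?_ ?_ ?_ ?_ ?_ (by rw [hC]; norm_num)
  · have h := isCharacter_comp (centralizer ({t} : Set S)).subtype (isIrr_isCharacter (hE.irr 2 (lt_of_lt_of_le (by norm_num) c5.1)))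
    rwa [show χ 2 = fun g => (vB 2 (T.ty g) : ℂ) from funext (hχ 2 (by norm_num))] at h
  · simp only [classInner_def, map_intCast, ← Int.cast_mul]
    rw [h7, hC]
    norm_num
  · simp only [classInner_def, Pi.one_apply, map_one, mul_one]
    rw [h6, hC]
    norm_num
  · simp only [OneMemClass.coe_one, (c6 _ (T.lt 1)).1 (by rw [← T.ord, orderOf_one])]
    norm_num
  · simp only [(hA t).2 (IsConj.refl t), d1]
    norm_num

open Cfsg.Agent.H66.TwESixCover Cfsg.Agent.TwoESix in
/-- **the row of `2.²E₆(2)`** -/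
theorem dg_e62 (F : Type) [Field F] [Fintype F] (hF : Fintype.card F = 4) :
    Dg 2 ↥(twistedE6 F 2) fun m => 3 ∣ m ∧ ¬ 3 ^ 7 ∣ m := fun K _ _ σ h1 h2 h3 h4 => by
  have hcov := S2493.nonsplit h1.1.commutator_eq_top h4
    ((QuotientGroup.quotientMulEquivOfEq h3.symm).trans (QuotientGroup.quotientKerEquivOfSurjective σ h2))
  have := BM.HBFinal.finite_HB
  have := Finite.of_surjective σ h2
  have := B.Fin.finite_B
  have := Fintype.ofFinite Spor.BabyMonster
  have := Fintype.ofFinite K
  have hp : Fact (Nat.Prime 2) := ⟨Nat.prime_two⟩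
  obtain ⟨π, z, hz⟩ := Cover.exists_ext hcov
  obtain ⟨e, -, he, hgen, -⟩ := GoodInst.exists_good F hF
  obtain ⟨-, -, s, -, hs, htop⟩ := Cover.exists_gens hcov he hgen (BM.HBFinal.hcard F hF) hz
  have hK := Cover.card_of_ext hz
  rw [BM.HBFinal.card_E F hF] at hK
  obtain ⟨α, -, hα⟩ := Cover.exists_mulEquiv hs zrels_sY htop closure_sY
    (hK ▸ Nat.mul_le_mul_left 2 BM.HBFinal.card_HB_le) (card_Y ▸ Nat.mul_le_mul_left 2 BM.HBFinal.card_HB_le)
  obtain ⟨T, hm, hT, -⟩ := B.Fin.tab
  obtain ⟨d1, d2, d3, d4⟩ := c7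
  have hty : ∀ u : Spor.BabyMonster, u * u = 1 → u ≠ 1 →
      2 * 76532479683774853939200 ∣ Nat.card (centralizer ({u} : Set Spor.BabyMonster)) → T.ty u = 1 := fun u a b c =>
    ((c6 _ (T.lt u)).2 (by rw [← T.ord, orderOf_eq_prime (by rw [pow_two, a]) b])).resolve_right
      fun h => h (c.trans (KM.Sp.card_dvd_cbd (KM.Sp.Hy.nil hm hT) u 5))
  have hc := BM.KHAll.card_cent .t1
  set x := BM.StageBFinalOf.gB .t1
  have hx : T.ty x = 1 := hty x ((pow_one _).symm.trans (BM.Psi.Rel.cox BM.StageBFinalOf.rel_gB .t1 .t1)) (fun h => by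
    rw [h, (centralizer_eq_top_iff_subset.2 (Set.singleton_subset_iff.2 (one_mem _))), card_top, BM.KHAll.card_B] at hc
    omega) (by rw [hc]; norm_num)
  have hcl : ∀ u, T.ty u = 1 → IsConj x u := fun u hu => by
    have h5 := card_class x
    rw [hc, hm.1, d4, Nat.mul_right_cancel_iff (by norm_num), ← d2, ← hm.2 1 d3] at h5
    have h6 : Function.Injective fun g : {g // IsConj x g} => (⟨g, by
      obtain ⟨c, h⟩ := isConj_iff.1 g.2
      rw [← h, T.conj, hx]⟩ : {g // T.ty g = 1}) := fun a b h => Subtype.ext (congrArg Subtype.val h :)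
    obtain ⟨g, hg⟩ := (h6.bijective_of_nat_card_le h5.ge).2 ⟨u, hu⟩
    have h7 : g.1 = u := congrArg Subtype.val hg
    exact h7 ▸ g.2
  let f : K →* centralizer ({(zY : Spor.BabyMonster)} : Set Spor.BabyMonster) :=
    ((Subgroup.subtype _).comp α.toMonoidHom).codRestrict _ fun k => mem_centralizer_singleton_iff.2
      (congrArg Subtype.val (zrels_sY.z_central closure_sY (α k)).eq)
  have hf : Function.Injective f := fun a b h => α.injective (Subtype.ext (congrArg Subtype.val h :))
  have hzz : (zY : Spor.BabyMonster) * zY = 1 := congrArg Subtype.val zrels_sY.zz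
  have hy := hcl _ (hty _ hzz (fun h => zY_ne (Subtype.ext h)) (hK ▸ card_dvd_of_injective f hf))
  have hC : Nat.card (centralizer ({(zY : Spor.BabyMonster)} : Set Spor.BabyMonster)) = 306129918735099415756800 := by
    have h5 := card_class x
    rw [← card_class (zY : Spor.BabyMonster), hc, Nat.card_congr (Equiv.subtypeEquivRight fun g =>
      ⟨hy.symm.trans, hy.trans⟩)] at h5
    exact (Nat.eq_of_mul_eq_mul_left (Nat.card_pos_iff.2 ⟨⟨⟨_, IsConj.refl _⟩⟩, inferInstance⟩) h5).symm
  obtain ⟨ψ, hψ, hd, ho⟩ := cent hm hT hzz (fun u => ⟨fun h => hy.symm.trans (hcl u h), fun h => by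
    obtain ⟨c, rfl⟩ := isConj_iff.1 (hy.trans h)
    rw [T.conj, hx]⟩) hC
  have hi : f.range.index = 2 := by
    have h5 := f.range.card_mul_index
    rw [hC, ← Nat.card_congr (MonoidHom.ofInjective hf).toEquiv, hK] at h5
    omega
  obtain ⟨θ, hθ, hov⟩ := H672.exists_under (f := f) hψ
  obtain ⟨⟨c, h5⟩, h6⟩ := H672.charDegree_dvd_of_over_hom f hf (normal_of_index_eq_two hi) hψ hθ hov
  have hzc : z ∈ center K := mem_center_iff.2 hz.comm
  refine ⟨_, ?_, ⟨θ, hθ⟩, BZ.T.faith_of_prime Nat.prime_two h4 hzc (odd_of_inner (f := ψ ∘ f) (fun g => ?_) hθ hzc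
    ((H672.over_iff _ _ _).1 hov)), rfl⟩
  · rw [hi, h5, Nat.mul_div_cancel_left _ (H672.charDegree_pos hθ), Nat.dvd_prime Nat.prime_two] at h6
    rw [hd] at h5
    show 3 ∣ charDegree θ ∧ ¬ 3 ^ 7 ∣ charDegree θ
    rcases h6 with rfl | rfl <;> omega
  · rw [Function.comp_apply, map_mul, Function.comp_apply, ← ho]
    exact congrArg (fun y => ψ (f g * y)) (Subtype.ext (congrArg (Subtype.val : Y → Spor.BabyMonster) hα))

end Cfsg.Agent.BZ.X.E6
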