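import Cfsg.Agent.BZ.X.One
import Cfsg.Agent.BZ.X.E62
import Cfsg.Agent.BZ.X.G23
import Cfsg.Agent.BZ.X.G24
import Cfsg.Agent.BZ.X.O82
import Cfsg.Agent.BZ.X.RB2
import Cfsg.Agent.BZ.X.U43
import Cfsg.Agent.BZ.X.U62
import Cfsg.Agent.OrdCrit.Main
import Cfsg.Agent.S2090
import Cfsg.Agent.S2091
import Cfsg.Agent.S2093
import Cfsg.Agent.S2095
import Cfsg.Agent.S2098
import Cfsg.Agent.S2101
import Cfsg.Agent.S2102
import Cfsg.Agent.S2104
import Cfsg.Agent.S2109

/-!
# BZ, the groups of Lie type with an exceptional multiplier: the rows (helper84)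
-/

set_option autoImplicit false

namespace Cfsg.Agent.BZ.X

open Cfsg Cfsg.Lie Subgroup Cfsg.Agent.BZ.T

section

variable {p : ℕ} [hp : Fact p.Prime] {S : Type} [Group S] {X : Bad}

/-- the order of a cyclic centre divides the exponent of the multiplier -/
theorem row_of_exp {A : Type} [CommGroup A] (hA : HasSchurMultiplier S A) {m : ℕ} (hm : ∀ a : A, a ^ m = 1)
    (h : ∀ n, n ∣ m → ¬ p ∣ n → Cov X n p S) : RowX X p S := fun K _ _ σ M B D H => by
  obtain ⟨f, hf⟩ := H95.StemCover.exists_surj_ker hA H.qs.1.commutator_eq_top σ H.surj H.ker.le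
  have hc : IsCyclic σ.ker := H.ker ▸ H.cyc
  refine h _ ?_ H.zp K σ M B D H rfl
  rw [← H.ker, ← IsCyclic.exponent_eq_card]
  refine Monoid.exponent_dvd_of_forall_pow_eq_one fun g => ?_
  obtain ⟨a, rfl⟩ := hf g
  rw [← map_pow, hm, map_one]

/-- two covers -/
theorem row_two {A : Type} [CommGroup A] (hA : HasSchurMultiplier S A) {m r : ℕ} (hm : ∀ a : A, a ^ m = 1)
    (hr : ∀ n, n ∣ m → ¬ p ∣ n → n = 1 ∨ n = r) (h1 : Cov X 1 p S) (h2 : Cov X r p S) : RowX X p S :=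
  row_of_exp hA hm fun n a b => by
    rcases hr n a b with rfl | rfl
    exacts [h1, h2]

end

theorem dv6 : ∀ n, n ∣ 6 → ¬ 3 ∣ n → n = 1 ∨ n = 2 := fun n h h' => by
  have := Nat.le_of_dvd (by norm_num) h
  interval_cases n <;> omega

theorem dv12 : ∀ n, n ∣ 12 → ¬ 2 ∣ n → n = 1 ∨ n = 3 := fun n h h' => by
  have := Nat.le_of_dvd (by norm_num) h
  interval_cases n <;> omega

variable (F : Type) [Field F] [Fintype F]

theorem fin_of {S : Type} {n : ℕ} (h : Nat.card S = n + 1) : Finite S := Nat.finite_of_card_ne_zero (by omega)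

theorem row_s62_of (hF : Fintype.card F = 2) (h : RB 3 3 (PSp 3 F)) (hd : Dg 2 (PSp 3 F) fun m => 3 ∣ m ∧ ¬ 9 ∣ m) :
    RowP 3 (PSp 3 F) :=
  have := Fact.mk Nat.prime_three
  have := fin_of (OrdCrit.card_sp6 hF)
  row_two (S2093.result hF) (by decide) dv6 (One.s62 F hF h.ra)
    (cov_xp (a := 1) h le_rfl hd (by rw [OrdCrit.card_sp6 hF]; norm_num))

theorem row_o82_of (hF : Fintype.card F = 2) (h : RB 3 3 (POmega F (quadFormPlus 4 F))) :
    RowP 3 (POmega F (quadFormPlus 4 F)) :=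
  have := Fact.mk Nat.prime_three
  have := fin_of (OrdCrit.card_o8 hF)
  row_two (S2098.result hF) (by decide) dv6 (One.o82 F hF h.ra)
    (cov_xp (a := 2) h le_rfl (O82.dg_o82 F hF) (by rw [OrdCrit.card_o8 hF]; norm_num))

/-- **`U₆(2)`, `p = 3`** -/
theorem row_u62 (hF : Fintype.card F = 4) : RowP 3 (PSU 6 F 2) :=
  have := Fact.mk Nat.prime_three
  have := fin_of (OrdCrit.card_u6 hF)
  row_two (S2091.result hF) (by decide) dv6 (One.u62 F hF (rb_u62 F hF).ra)
    (cov_xp (a := 3) (rb_u62 F hF) le_rfl (dg_u62 F hF) (by rw [OrdCrit.card_u6 hF]; norm_num))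

theorem row_g24_of (hF : Fintype.card F = 4) (h : RB 3 2 ↥(chevG2.group F)) : RowP 3 ↥(chevG2.group F) :=
  have := Fact.mk Nat.prime_three
  have : Finite ↥(chevG2.group F) := Nat.finite_of_card_ne_zero (by rw [S1059.result hF]; norm_num)
  row_two (S2102.result hF) (by decide) dv6 (One.g24 F hF (h.mono (by norm_num)).ra)
    (cov_xp (a := 1) h (by norm_num) (G24.dg_g24 F hF) (by rw [S1059.result hF]; norm_num))

theorem row_f42_of (hF : Fintype.card F = 2) (hd : Dg 2 ↥(chevF4.group F) fun m => 3 ∣ m ∧ ¬ 81 ∣ m) :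
    RowP 3 ↥(chevF4.group F) :=
  have := Fact.mk Nat.prime_three
  have := fin_of (OrdCrit.card_f4 hF)
  row_two (S2104.result hF) (by decide) dv6 (One.f42 F hF (rb_f42 F hF).ra)
    (cov_xp (a := 3) (rb_f42 F hF) le_rfl hd (by rw [OrdCrit.card_f4 hF]; norm_num))

/-- **`²E₆(2)`, `p = 3`** -/
theorem row_e62 (hF : Fintype.card F = 4) : RowP 3 ↥(twistedE6 F 2) :=
  have := Fact.mk Nat.prime_three
  have := fin_of (BM.HBFinal.card_E F hF)
  row_two (S2109.result hF) (by decide) dv6 (One.e62 F hF (rb_e62 F hF).ra)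
    (cov_xp (a := 6) (rb_e62 F hF) le_rfl (E6.dg_e62 F hF) (by rw [BM.HBFinal.card_E F hF]; norm_num))

/-- **`G₂(3)`, `p = 2`** -/
theorem row_g23 (hF : Fintype.card F = 3) : RowP 2 ↥(chevG2.group F) :=
  row_two (S2101.result hF) (by decide) dv12 (One.one_two (r0_g23 F hF).rc.ra) (g23 F hF)

theorem row_o73_of (hF : Fintype.card F = 3) (h : RA 2 (POmega F (quadFormOdd 3 F)))
    (hc : Cov XP 3 2 (POmega F (quadFormOdd 3 F))) : RowP 2 (POmega F (quadFormOdd 3 F)) :=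
  row_two (S2095.result hF) (by decide) dv12 (One.one_two h) hc

/-- **`U₄(3)`, `p = 2`** -/
theorem row_u43 (hF : Fintype.card F = 9) : RowP 2 (PSU 4 F 3) :=
  let ⟨e⟩ := TwoF.XL.U43.iso hF
  row_two (S2090.result hF) (by decide) dv12 ((One.one_two U4.r0.rc.ra).of_equiv e) (U4.u43 F hF)

end Cfsg.Agent.BZ.X
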