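import Cfsg.Agent.BZ.X.Defs
import Cfsg.Agent.BZ.D1.Main
import Cfsg.Agent.PQ.SS.Prin
import Cfsg.Agent.S0969

/-!
# BZ, the exceptional covers : the companions of the Steinberg character (helper74)

* `exists_nu`, `dg_of` : from the characters over a central character to `Dg`;
* `exists_st`, `reg_eq`, `eq_of_deg` : one character of degree `|S|_r` over every central character;
* `dg_st`, `dg_two`, `xt_of` and the rows for `XT`.
-/

set_option autoImplicit false
set_option linter.unusedSectionVars false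

namespace Cfsg.Agent.BZ.X.T2

open Cfsg Cfsg.Lie Subgroup Cfsg.Agent.BZ.T Cfsg.Agent.BZ.C2 Cfsg.Agent.Blocks Cfsg.Agent.Characters.Core
open Cfsg.Agent.H644.CentralQuot
open scoped ComplexConjugate

variable {p r : ℕ} [hp : Fact p.Prime] [hr : Fact r.Prime] {K S : Type} [Group K] [Finite K] [Group S] {σ : K →* S}

/-- a faithful central character -/
theorem exists_nu (hk : σ.ker = center K) (hc : Nat.card (center K) = r) :
    ∃ ν : σ.ker →* ℂˣ, ∀ χ : IrrCharacter K, Comp.Ov σ ν (χ : K → ℂ) → Fd K (charDegree (χ : K → ℂ)) := by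
  have h1 : Nontrivial σ.ker := Finite.one_lt_card_iff_nontrivial.1 (by rw [hk, hc]; exact hr.out.one_lt)
  obtain ⟨z, hz⟩ := exists_ne (1 : σ.ker)
  let : CommGroup σ.ker :=
    { (inferInstance : Group σ.ker) with mul_comm := fun a b => Subtype.ext (mem_center_iff.1 (hk.le b.2) a) }
  have : NeZero (Monoid.exponent σ.ker) := ⟨Monoid.exponent_ne_zero_of_finite⟩
  obtain ⟨ν, hν⟩ := CommGroup.exists_apply_ne_one_of_hasEnoughRootsOfUnity σ.ker ℂ hz
  refine ⟨ν, fun χ o => ⟨χ, faith_of_prime hr.out hc (hk.le z.2) (fun h => hν (Units.ext ?_)), rfl⟩⟩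
  rw [o z] at h
  exact mul_right_cancel₀ (isIrr_apply_one_ne_zero χ.2) (h.trans (one_mul _).symm)

/-- `Dg` from the characters over every central character -/
theorem dg_of {P : ℕ → Prop} (h : ∀ (K : Type) [Group K] [Finite K] (σ : K →* S), Comp.Ext r σ → ∀ ν : σ.ker →* ℂˣ,
    ∃ χ : IrrCharacter K, Comp.Ov σ ν (χ : K → ℂ) ∧ P (charDegree (χ : K → ℂ))) : Dg r S P := fun K _ _ σ _ h2 h3 h4 => by
  obtain ⟨ν, hν⟩ := exists_nu h3 h4
  obtain ⟨χ, o, h5⟩ := h K σ ⟨h2, h3.le, IsPGroup.of_card (n := 1) (by rw [h3, h4, pow_one])⟩ ν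
  exact ⟨_, h5, hν χ o⟩

theorem exists_st [Finite S] (hS : IsLieTypeChar r S) :
    ∃ φ : IrrCharacter S, charDegree (φ : S → ℂ) = r ^ (Nat.card S).factorization r := by
  have := H400.LieSimple.isSimple_of_lie hS
  obtain ⟨ψ, hψ, h1, -⟩ := H330.GowSt.exists_st_of_hasSplit
    (H330.Gow.hasSplit_of_ab (H716.SplitAb.hasSplitAb_of_lie hr.out hS))
  exact ⟨⟨ψ, hψ⟩, Basic.charDegree_of_eq h1⟩

theorem uniq [Finite S] (hS : IsLieTypeChar r S) (χ ψ : IrrCharacter S)
    (h : (Nat.card S).factorization r ≤ (charDegree (χ : S → ℂ)).factorization r)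
    (h' : (Nat.card S).factorization r ≤ (charDegree (ψ : S → ℂ)).factorization r) : χ = ψ := by
  have := H400.LieSimple.isSimple_of_lie hS
  have h1 := H716.SplitAb.hasSplitAb_of_lie hr.out hS
  exact H330.GowOne.unique_of_hasSplitAb h1 (H330.Gow.perfect_of_split (H330.Gow.hasSplit_of_ab h1)) χ ψ
    ((H143.ChevBlocks.not_dvd_iff χ.2).2 h) ((H143.ChevBlocks.not_dvd_iff ψ.2).2 h')

/-- the values of a character of degree `|S|_r` -/
theorem reg_eq (h : Comp.Ext r σ) (hS : IsLieTypeChar r S) {φ : IrrCharacter S} {χ : IrrCharacter K}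
    (hφ : charDegree (φ : S → ℂ) = r ^ (Nat.card S).factorization r)
    (hχ : charDegree (χ : K → ℂ) = r ^ (Nat.card S).factorization r) :
    (∀ s, ¬ r ∣ orderOf s → (χ : K → ℂ) s = (φ : S → ℂ) (σ s)) ∧ ∀ k, r ∣ orderOf (σ k) → (χ : K → ℂ) k = 0 := by
  classical
  have := Finite.of_surjective σ h.surj
  have := Fintype.ofFinite K
  have := finite_irr (G := K ⧸ σ.ker)
  obtain ⟨M, hM⟩ := ExistsModular.exists_isPModular hr.out
  have := hM.2.1.isPrime
  let e := QuotientGroup.quotientKerEquivOfSurjective σ h.surj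
  have hc : Nat.card (K ⧸ σ.ker) = Nat.card S := Nat.card_congr e.toEquiv
  obtain ⟨h1, h2⟩ := S0969.result r M hM σ.ker h.pg h.cen χ (by
    rw [hχ, index_eq_card, hc, hr.out.factorization_pow, Finsupp.single_eq_same])
  have hb := Basic.isPBlock_blockOf (M := M) χ
  have h3 := blockDefect_defl hM h.cen (S0908.result r M hM _ hb _ h1) hb
  have := Fintype.ofFinite (defl σ.ker (blockOf M (χ : K → ℂ)))
  obtain ⟨m, hm⟩ := H658.exists_int_defl hM h.cen h.pg hb (Basic.mem_blockOf_self χ)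
  have h4 : ∀ (θ : defl σ.ker (blockOf M (χ : K → ℂ))) (k : K), (infl σ.ker θ.1 : K → ℂ) k = (φ : S → ℂ) (σ k) := fun θ k => by
    have h5 := Nat.sInf_le (s := (fun ψ : IrrCharacter (K ⧸ σ.ker) => (charDegree (ψ : K ⧸ σ.ker → ℂ)).factorization r) ''
      defl σ.ker (blockOf M (χ : K → ℂ))) ⟨θ.1, θ.2, rfl⟩
    rw [blockDefect, hc] at h3
    have h6 := uniq hS ⟨_, isIrr_comp e.symm.toMonoidHom e.symm.surjective θ.1.2⟩ φ (by
      have h6 : charDegree ((θ.1 : K ⧸ σ.ker → ℂ) ∘ e.symm.toMonoidHom) = charDegree (θ.1 : K ⧸ σ.ker → ℂ) := by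
        rw [charDegree, Function.comp_apply, map_one, charDegree]
      simp only [h6] at h5 ⊢
      omega) (by rw [hφ, hr.out.factorization_pow, Finsupp.single_eq_same])
    rw [← h6]
    exact congrArg (θ.1 : K ⧸ σ.ker → ℂ) (e.symm_apply_apply (QuotientGroup.mk k)).symm
  simp only [h4, ← Finset.sum_mul] at hm
  have h5 := hm 1 Comp.reg_one
  rw [map_one, Basic.irr_one_eq_charDegree χ.2, hχ, ← hφ, ← Basic.irr_one_eq_charDegree φ.2,
    right_eq_mul₀ (isIrr_apply_one_ne_zero φ.2)] at h5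
  refine ⟨fun s hs => by rw [hm s hs, h5, one_mul], fun k hk => ?_⟩
  obtain ⟨x, hx⟩ := PPart.exists_isPPart r k
  refine h2 k x hx fun h6 => ?_
  obtain ⟨y, rfl, -, -, h7⟩ := hx
  exact Comp.reg_map h7 (by rwa [map_mul, MonoidHom.mem_ker.1 h6, one_mul] at hk)

theorem eq_of_deg (h : Comp.Ext r σ) (hS : IsLieTypeChar r S) {ν : σ.ker →* ℂˣ} {χ ψ : IrrCharacter K}
    (o : Comp.Ov σ ν (χ : K → ℂ)) (o' : Comp.Ov σ ν (ψ : K → ℂ))
    (hχ : charDegree (χ : K → ℂ) = r ^ (Nat.card S).factorization r)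
    (hψ : charDegree (ψ : K → ℂ) = r ^ (Nat.card S).factorization r) : χ = ψ := by
  have := Finite.of_surjective σ h.surj
  obtain ⟨φ, hφ⟩ := exists_st hS
  obtain ⟨h1, h2⟩ := reg_eq h hS hφ hχ
  obtain ⟨h3, h4⟩ := reg_eq h hS hφ hψ
  refine Subtype.ext (funext fun k => ?_)
  by_cases hk : r ∣ orderOf (σ k)
  · exact (h2 k hk).trans (h4 k hk).symm
  · obtain ⟨z, s, hs, rfl⟩ := Comp.dec hk
    rw [o.mul h χ.2, o'.mul h ψ.2, h1 s hs, h3 s hs]

/-- the companion of the Steinberg character -/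
theorem st (h : Comp.Ext r σ) (hS : IsLieTypeChar r S) (ν : σ.ker →* ℂˣ) : ∃ χ : IrrCharacter K,
    Comp.Ov σ ν (χ : K → ℂ) ∧ charDegree (χ : K → ℂ) = r ^ (Nat.card S).factorization r := by
  have := Finite.of_surjective σ h.surj
  obtain ⟨φ, hφ⟩ := exists_st hS
  obtain ⟨χ, o, h1⟩ := Comp.dz h ν φ.2 fun g => D1.vanish φ.2 (by
    rw [hφ, hr.out.factorization_pow, Finsupp.single_eq_same])
  exact ⟨χ, o, by rw [charDegree, h1 1 Comp.reg_one, map_one, ← hφ, charDegree]⟩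

/-- a second degree prime to `p` -/
theorem two (h : Comp.Ext r σ) (hS : IsLieTypeChar r S) (hpr : p ≠ r) (hd : p ∣ Nat.card S) (ν : σ.ker →* ℂˣ) :
    ∃ χ : IrrCharacter K, Comp.Ov σ ν (χ : K → ℂ) ∧ ¬ p ∣ charDegree (χ : K → ℂ) ∧
      charDegree (χ : K → ℂ) ≠ r ^ (Nat.card S).factorization r := by
  classical
  obtain ⟨ψ, o, h1⟩ := st h hS ν
  by_contra h2
  have hg : Gd σ (σ 1) := gd_of_coprime h.cen (n := 1) (by rw [map_one, one_pow]) (Nat.coprime_one_left _)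
  have h3 := col_gd h.cen ψ hg
  rw [hg.card h.surj, map_one, (centralizer_eq_top_iff_subset (s := {1})).2 (Set.singleton_subset_iff.2 (one_mem _)),
    card_top, Nat.cast_mul, mul_right_inj' (Nat.cast_ne_zero.2 Nat.card_pos.ne')] at h3
  have h4 : ∑ χ ∈ Ir σ ψ.1, charDegree χ.1 ^ 2 = Nat.card S := Nat.cast_injective (R := ℂ) (by
    rw [← h3, Nat.cast_sum]
    exact Finset.sum_congr rfl fun χ _ => by rw [Basic.irr_one_eq_charDegree χ.2, map_natCast, Nat.cast_pow, sq])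
  rw [← Finset.add_sum_erase _ _ (mem_Ir.2 fun _ _ => rfl : ψ ∈ Ir σ ψ.1)] at h4
  have h5 : p ∣ ∑ χ ∈ (Ir σ ψ.1).erase ψ, charDegree χ.1 ^ 2 := Finset.dvd_sum fun χ hχ => by
    have o' : Comp.Ov σ ν (χ : K → ℂ) := fun z => by
      have h5 := mem_Ir.1 (Finset.mem_of_mem_erase hχ) z z.2
      rwa [o z, mul_div_cancel_right₀ _ (isIrr_apply_one_ne_zero ψ.2), div_eq_iff (isIrr_apply_one_ne_zero χ.2)] at h5
    exact (by_contra fun h5 => h2 ⟨χ, o', h5, fun h6 => Finset.ne_of_mem_erase hχ (eq_of_deg h hS o' o h6 h1)⟩ :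
      p ∣ charDegree χ.1).trans (dvd_pow_self _ two_ne_zero)
  rw [← h4, Nat.dvd_add_left h5, h1] at hd
  exact hpr ((Nat.prime_dvd_prime_iff_eq hp.out hr.out).1 (hp.out.dvd_of_dvd_pow (hp.out.dvd_of_dvd_pow hd)))

theorem dg_st (hS : IsLieTypeChar r S) : Dg r S (· = r ^ (Nat.card S).factorization r) :=
  dg_of fun _ _ _ _ h => st h hS

theorem dg_two (hS : IsLieTypeChar r S) (hpr : p ≠ r) (hd : p ∣ Nat.card S) :
    Dg r S fun m => ¬ p ∣ m ∧ m ≠ r ^ (Nat.card S).factorization r :=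
  dg_of fun _ _ _ _ h => two h hS hpr hd

/-- **two degrees of height zero** -/
theorem xt_of (h : RB p 3 S) (hS : IsLieTypeChar r S) (hpr : p ≠ r) : Cov XT r p S := fun K _ _ σ M B D H =>
  cov_xt h (fun h1 => hpr ((Nat.prime_dvd_prime_iff_eq hp.out hr.out).1 (hp.out.dvd_of_dvd_pow h1))) (dg_st hS)
    (dg_two hS hpr ((dvd_pow_self p three_ne_zero).trans H.cube)) K σ M B D H

theorem rb_of_r0 [Finite S] (h : R0 p S) : RB p 1 S := fun D hD h1 => (h D hD).resolve_right fun e => by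
  rw [e, card_bot, pow_one] at h1
  exact hp.out.not_dvd_one h1

/-! ### the rows -/

variable (F : Type) [Field F] [Fintype F]

theorem char_of {k : ℕ} (hF : Fintype.card F = r ^ k) : CharP F r := by
  obtain ⟨s, hs⟩ := CharP.exists F
  obtain ⟨m, h1, h2⟩ := FiniteField.card F s
  rwa [(Nat.prime_dvd_prime_iff_eq h1 hr.out).1 (h1.dvd_of_dvd_pow (hF ▸ h2 ▸ dvd_pow_self s m.ne_zero))] at hs

theorem lie_sp (hF : Fintype.card F = r) : IsLieTypeChar r (PSp 3 F) :=
  .inr (.inl ⟨F, inferInstance, inferInstance, char_of F (hF.trans (pow_one r).symm), 3, by decide, by omega, ⟨.refl _⟩⟩)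

theorem lie_op (hF : Fintype.card F = r) : IsLieTypeChar r (POmega F (quadFormPlus 4 F)) :=
  .inr (.inr (.inr (.inr (.inl ⟨F, inferInstance, inferInstance, char_of F (hF.trans (pow_one r).symm), 4, le_rfl, ⟨.refl _⟩⟩))))

theorem lie_oo (hF : Fintype.card F = 3) : IsLieTypeChar 3 (POmega F (quadFormOdd 3 F)) :=
  .inr (.inr (.inr (.inl ⟨F, inferInstance, inferInstance, char_of F (k := 1) hF, 3, le_rfl, by rw [hF]; decide, ⟨.refl _⟩⟩)))

theorem lie_u {n : ℕ} (hn : 4 ≤ n) (hF : Fintype.card F = r ^ 2) : IsLieTypeChar r (PSU n F r) :=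
  .inr (.inr (.inl ⟨F, inferInstance, inferInstance, char_of F hF, n, r, hF, by omega, by omega, ⟨.refl _⟩⟩))

theorem lie_g2 {k : ℕ} (hF : Fintype.card F = r ^ k) (h3 : 3 ≤ r ^ k) : IsLieTypeChar r ↥(chevG2.group F) :=
  .inr (.inr (.inr (.inr (.inr (.inr (.inl ⟨F, inferInstance, inferInstance, char_of F hF, .inl ⟨hF ▸ h3, ⟨.refl _⟩⟩⟩))))))

theorem lie_f4 (hF : Fintype.card F = r) : IsLieTypeChar r ↥(chevF4.group F) :=
  .inr (.inr (.inr (.inr (.inr (.inr (.inl ⟨F, inferInstance, inferInstance, char_of F (hF.trans (pow_one r).symm), .inr (.inl ⟨.refl _⟩)⟩))))))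

theorem lie_e6 (hF : Fintype.card F = r ^ 2) : IsLieTypeChar r ↥(twistedE6 F r) :=
  .inr (.inr (.inr (.inr (.inr (.inr (.inr (.inl ⟨F, inferInstance, inferInstance, char_of F hF, r, hr.out.prime.isPrimePow,
    .inl ⟨hF, ⟨.refl _⟩⟩⟩)))))))

/-- **the nine rows for `XT`** from the local data -/
theorem xc_xt (s62 : ∀ (F : Type) [Field F] [Fintype F], Fintype.card F = 2 → RB 3 3 (PSp 3 F))
    (o82 : ∀ (F : Type) [Field F] [Fintype F], Fintype.card F = 2 → RB 3 3 (POmega F (quadFormPlus 4 F)))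
    (u62 : ∀ (F : Type) [Field F] [Fintype F], Fintype.card F = 4 → RB 3 3 (PSU 6 F 2))
    (g24 : ∀ (F : Type) [Field F] [Fintype F], Fintype.card F = 4 → RB 3 3 ↥(chevG2.group F))
    (f42 : ∀ (F : Type) [Field F] [Fintype F], Fintype.card F = 2 → RB 3 3 ↥(chevF4.group F))
    (e62 : ∀ (F : Type) [Field F] [Fintype F], Fintype.card F = 4 → RB 3 3 ↥(twistedE6 F 2))
    (g23 : ∀ (F : Type) [Field F] [Fintype F], Fintype.card F = 3 → RB 2 3 ↥(chevG2.group F))
    (o73 : ∀ (F : Type) [Field F] [Fintype F], Fintype.card F = 3 → Cov XT 3 2 (POmega F (quadFormOdd 3 F)))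
    (u43 : ∀ (F : Type) [Field F] [Fintype F], Fintype.card F = 9 → RB 2 3 (PSU 4 F 3)) : Xc XT :=
  ⟨fun F _ _ h => xt_of (s62 F h) (lie_sp F h) (by decide), fun F _ _ h => xt_of (o82 F h) (lie_op F h) (by decide),
    fun F _ _ h => xt_of (u62 F h) (lie_u F (by decide) h) (by decide),
    fun F _ _ h => xt_of (g24 F h) (lie_g2 F (k := 2) h (by decide)) (by decide),
    fun F _ _ h => xt_of (f42 F h) (lie_f4 F h) (by decide), fun F _ _ h => xt_of (e62 F h) (lie_e6 F h) (by decide),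
    fun F _ _ h => xt_of (g23 F h) (lie_g2 F (k := 1) h (by decide)) (by decide), o73,
    fun F _ _ h => xt_of (u43 F h) (lie_u F (by decide) h) (by decide)⟩

end Cfsg.Agent.BZ.X.T2
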