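import Cfsg.Agent.BZ.X.Defs
import Cfsg.Agent.H133.PB.Basic
import Cfsg.Agent.S1059
import Cfsg.Agent.S4515
import Cfsg.Agent.S4888
import Cfsg.Agent.S4933
import Cfsg.Agent.H504.HT.DPInst
import Cfsg.Agent.H734.HT.Mid
import Cfsg.Agent.H178.HT.ClassPlus
import Cfsg.Agent.H326.HT.TwESixC
import Cfsg.Agent.H248.HT.F4
import Cfsg.Agent.H612.Eight.Fam
import Cfsg.Agent.H598.MaxDeg

/-!
# BZ, the exceptional covers : the simple groups themselves (helper74)

* `eq_prin` : the block is the principal block; `one_xp`, `one_two`, `one_small`, `one_xt`;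
* the rows `s62 o82 u62 g24 f42 e62 : RA 3 S → Cov XP 1 3 S`.
-/

set_option autoImplicit false
set_option linter.unusedSectionVars false

namespace Cfsg.Agent.BZ.X.One

open Cfsg Cfsg.Lie Subgroup Cfsg.Agent.BZ.T Cfsg.Agent.BHZ.Spor Cfsg.Agent.Blocks Cfsg.Agent.Characters.Core
open Cfsg.Agent.H133.PB (BD)

variable {p : ℕ} [hp : Fact p.Prime] {M : Ideal AlgInt} {K S : Type} [Group K] [Finite K] [Group S] {σ : K →* S}
  {B : Set (IrrCharacter K)} {D : Subgroup K}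

/-- a block of maximal defect of the simple group is the principal block -/
theorem eq_prin (H : Hyp p M B D σ) (h : RegTriv p (D.map σ)) (hc : Nat.card (center K) = 1) :
    B = principalBlock M K := by
  have := Local.isPrime_of_isPModular H.hM
  obtain ⟨ψ, hψ, -⟩ := H.max h
  have h1 : (⟨fun _ => 1, isIrr_one⟩ : IrrCharacter K) ∈ B := by
    refine H.mem_of_ov h hψ (fun z hz => ?_) (top_of_not_dvd H.hM ?_)
    · rw [H.ker, card_eq_one.1 hc, mem_bot] at hz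
      rw [hz, div_self (isIrr_apply_one_ne_zero ψ.2), div_one]
    · rw [Basic.charDegree_of_eq (n := 1) (by simp)]
      exact hp.out.not_dvd_one
  ext χ
  exact ⟨Basic.isPBlock_sameBlock H.hB h1, Basic.isPBlock_mem_of_sameBlock H.hB h1⟩

theorem not_xp (H : Hyp p M B D σ) (h : RegTriv p (D.map σ)) (hc : Nat.card (center K) = 1) (hb : BD p p K) :
    ¬ XP p K B := by
  obtain ⟨ψ, hψ, h1⟩ := H.max h
  obtain ⟨χ, h2, h3⟩ := hb M H.hM
  exact not_XP_of (eq_prin H h hc ▸ h2) hψ h3 h1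

/-- the principal block has a member of degree divisible by `p` -/
theorem one_xp (h : RA p S) (hb : BD p p S) : Cov XP 1 p S := fun _ _ _ σ _ _ _ H hc =>
  not_xp H (H.rt_of_ra h) hc (hb.of_surjective σ H.surj)

theorem bd_two (P : Sylow 2 K) (h : ¬ IsMulCommutative P) : BD 2 2 K := fun M hM => by
  obtain ⟨a, m, hm, e⟩ := Nat.exists_eq_two_pow_mul_odd (Nat.card_pos (α := K)).ne'
  have h1 : (2 ^ a).Coprime m := (Nat.coprime_two_left.2 hm).pow_left a
  obtain ⟨k, k1, k2⟩ := Nat.chineseRemainder h1 1 (m - 1)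
  by_contra h2
  refine h ((S4515.result M hM P k (fun g ⟨j, hj⟩ => ?_) fun g hg => ?_).1 fun χ h3 _ =>
    Nat.not_even_iff_odd.1 fun h4 => h2 ⟨χ, h3, h4.two_dvd⟩)
  · have h5 : orderOf g ∣ 2 ^ a := Nat.Coprime.dvd_of_dvd_mul_right
      (hj ▸ (Nat.coprime_two_left.2 hm).pow_left j) (e ▸ orderOf_dvd_natCard g)
    rw [pow_eq_pow_iff_modEq.2 (k1.of_dvd h5), pow_one]
  · have h5 : orderOf g ∣ m := Nat.Coprime.dvd_of_dvd_mul_left
      ((Nat.coprime_two_right.2 hg).pow_right a) (e ▸ orderOf_dvd_natCard g)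
    rw [pow_eq_pow_iff_modEq.2 (k2.of_dvd h5), eq_inv_iff_mul_eq_one, ← pow_succ, Nat.sub_add_cancel hm.pos]
    exact orderOf_dvd_iff_pow_eq_one.1 h5

theorem bd_small (P : Sylow p K) (h : ¬ IsMulCommutative P) (h4 : ¬ p ^ 4 ∣ Nat.card K) : BD p p K := fun M hM => by
  obtain ⟨n, hn⟩ := P.2.exists_card_eq
  have h1 : ∀ φ : IrrCharacter P, charDegree (φ : P → ℂ) = 1 ∨ charDegree (φ : P → ℂ) = p ^ 1 := fun φ => by
    obtain ⟨i, -, hi⟩ := (Nat.dvd_prime_pow hp.out).1 (hn ▸ deg_dvd φ)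
    have h2 := H612.Eight.deg_sq_le φ
    have h3 : ¬ 4 ≤ n := fun h3 => h4 ((pow_dvd_pow p h3).trans (hn ▸ card_subgroup_dvd_card _))
    rw [hi, hn, ← pow_mul, Nat.pow_le_pow_iff_right hp.out.one_lt] at h2
    rw [hi]
    rcases (by omega : i = 0 ∨ i = 1) with rfl | rfl
    exacts [.inl (pow_zero p), .inr rfl]
  obtain ⟨β, h2, h3⟩ := H598.MaxDeg.exists_nonlinear (G := P) fun h2 => h ⟨⟨h2⟩⟩
  obtain ⟨χ, h5, h6, -⟩ := S4933.result p M hM P 1 one_pos h1 ⟨⟨β, h2⟩, (h1 ⟨β, h2⟩).resolve_left (by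
    change charDegree β ≠ 1
    omega)⟩
  rw [S4888.blockHeight_principal p hM] at h6
  exact ⟨χ, h5, Nat.dvd_of_factorization_pos h6.ne'⟩

/-- the prime `2` -/
theorem one_two (h : RA 2 S) : Cov XP 1 2 S := fun K _ _ σ M B D H hc => by
  obtain ⟨P, rfl⟩ := H.ce.syl_of_rt H.hM H.hB H.hD (H.rt_of_ra h)
  exact not_xp H (H.rt_of_ra h) hc (bd_two P H.nab)

/-- Sylow subgroups of order `p ^ 3` -/
theorem one_small (h : RA p S) (h4 : ¬ p ^ 4 ∣ Nat.card S) : Cov XP 1 p S := fun K _ _ σ M B D H hc => by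
  obtain ⟨P, rfl⟩ := H.ce.syl_of_rt H.hM H.hB H.hD (H.rt_of_ra h)
  exact not_xp H (H.rt_of_ra h) hc (bd_small P H.nab (by rwa [H.card_eq, hc, mul_one]))

/-- two degrees of height zero -/
theorem one_xt (h : RA p S) : Cov XT 1 p S := fun K _ _ σ M B D H hc hX => by
  obtain ⟨ψ, hψ, h1⟩ := H.max (H.rt_of_ra h)
  obtain rfl := eq_prin H (H.rt_of_ra h) hc
  obtain ⟨P, N, hN, h2⟩ := (S4888.result p M H.hM).1 ⟨_, fun χ h2 h3 => hX χ h2 ψ hψ h3 (ht_of_not_dvd h1)⟩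
  have h3 : IsPGroup p (K ⧸ N) := IsPGroup.of_card (by
    rw [← index_eq_card, h2.symm.index_eq_card, P.card_eq_multiplicity])
  have := h3.isNilpotent
  have := H.qs.1
  have h4 : Subsingleton (K ⧸ N) := by
    by_contra h4
    have := not_subsingleton_iff_nontrivial.1 h4
    exact Group.IsPerfect.not_isSolvable (K ⧸ N) inferInstance
  have h5 : Nat.card P = 1 := by rw [← h2.symm.index_eq_card, index_eq_card, Nat.card_unique]
  obtain ⟨Q, hQ⟩ := H.pg.exists_le_sylow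
  have h6 := H.cube_dvd.trans (card_dvd_of_le hQ)
  rw [Nat.card_congr (Q.equiv P).toEquiv, h5] at h6
  exact hp.out.not_dvd_one ((dvd_pow_self p three_ne_zero).trans h6)

/-! ### the six groups at `p = 3` -/

omit hp in
theorem bd_of_vd {G : Type} [Group G] (h : ∀ M, IsPModular p M → ∃ χ : IrrCharacter G, χ ∈ principalBlock M G ∧
    0 < H316.HT.vd p (χ : G → ℂ)) : BD p p G := fun M hM =>
  let ⟨χ, h1, h2⟩ := h M hM
  ⟨χ, h1, Nat.dvd_of_factorization_pos h2.ne'⟩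

variable (F : Type) [Field F] [Fintype F]

theorem bd_s62 (hF : Fintype.card F = 2) : BD 3 3 (PSp 3 F) := fun M hM => by
  obtain ⟨X, _, _, _, d, h⟩ : ∃ (X : Type) (_ : MulAction (PSp 3 F) X) (_ : Finite X) (_ : Nonempty X) (d : X → X → ℕ),
      H722.DPol.DP (PSp 3 F) X d 3 (Nat.card F) (Nat.card F) :=
    ⟨_, _, inferInstance, H504.HT.nonempty_sp, _, H504.HT.dp_sp (p := 3) (by decide) (by decide) (by omega)⟩
  rw [Nat.card_eq_fintype_card, hF] at h
  have := Fintype.ofFinite X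
  obtain ⟨χ, h1, h2, -⟩ := H734.HT.exists_mem_val (j := 3) hM (by decide) (by decide) (by decide) h (by decide)
    (H697.HT.DPB0.dvd_unitary' (by decide) (by decide))
  refine ⟨χ, h1, ?_⟩
  rw [Basic.charDegree_of_eq (n := 15) (by rw [h2]; norm_num [H722.DPol.ff, H722.DPol.gg, Finset.prod_range_succ])]
  decide

theorem bd_u62 (hF : Fintype.card F = 4) : BD 3 3 (PSU 6 F 2) := fun M hM => by
  obtain ⟨X, _, _, _, d, h, -⟩ := H646.HT.psu_dp (F := F) (n := 6) (q := 2) (m := 3) (f := 0) hF (by decide) (by decide) rfl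
    (by decide)
  have := Fintype.ofFinite X
  obtain ⟨χ, h1, h2, -⟩ := H734.HT.exists_mem_val (j := 1) hM (by decide) (by decide) (by decide) h (by decide)
    (H697.HT.DPB0.dvd_unitary' (by decide) (by decide))
  refine ⟨χ, h1, ?_⟩
  rw [Basic.charDegree_of_eq (n := 252) (by rw [h2]; norm_num [H722.DPol.ff, H722.DPol.gg])]
  decide

open Cfsg.Agent.LieClassical.OrthForms Cfsg.Agent.H477.HC Cfsg.Agent.H477.HC.CForm Cfsg.Agent.H487.HT in
theorem bd_o82 (hF : Fintype.card F = 2) : BD 3 3 (POmega F (quadFormPlus 4 F)) := by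
  have hG := ClassicalGeometry.OrthSemiForms.good_plus (F := F) (m := 4) (by norm_num)
  have : Finite ((Fin 4 ⊕ Fin 4 → F) ≃ₗ[F] (Fin 4 ⊕ Fin 4 → F)) := Finite.of_injective _ DFunLike.coe_injective
  have hW : H697.HT.OPlus.W 3 F 4 = 4 := by
    rw [H697.HT.OPlus.W, hF, H530.HT.wP_even (m := 4) (q := 2) (c := 1) (by norm_num) one_pos
      (orderOf_eq_prime (p := 2) (by decide) (by decide))]
    norm_num
  rw [← coe_plusForm]
  refine BD.of_equiv (ClassicalGeometry.OrthSemiForms.pomegaEquiv hG) (bd_of_vd fun M hM => ?_)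
  obtain ⟨ψ, h1, h2, -⟩ := H561.HT.TriS.exists_of_O (plusF F 4).iso.subtype hG (by decide) Subtype.val_injective
    H697.HT.OPlus.range_plusF (H697.HT.OPlus.chars_dp (p := 3) (by decide) (by decide) (by rw [hF]; decide) (by rw [hW]; decide)
      (by rw [hW]; decide) (by rw [hW]; decide)) M hM ⊥ IsPGroup.of_bot bot_le
  exact ⟨ψ, h1, h2⟩

theorem bd_f42 (hF : ¬ 3 ∣ Fintype.card F) : BD 3 3 ↥(chevF4.group F) := by
  obtain ⟨_, ψ, -, h1, h2, -⟩ := H248.HT.ud_F4 F hF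
  exact bd_of_vd fun M hM => ⟨ψ, h1 M hM, h2 ▸ two_pos⟩

theorem bd_e62 (hF : Fintype.card F = 4) : BD 3 3 ↥(twistedE6 F 2) := by
  obtain ⟨_, ψ, -, -, h1, h2, -⟩ := H326.HT.ud_three (K := F) (x := 2) Nat.prime_two.prime.isPrimePow hF dvd_rfl
  exact bd_of_vd fun M hM => ⟨ψ, h1 M hM, h2 ▸ one_pos⟩

theorem s62 (hF : Fintype.card F = 2) (h : RA 3 (PSp 3 F)) : Cov XP 1 3 (PSp 3 F) :=
  one_xp h (bd_s62 F hF)

theorem o82 (hF : Fintype.card F = 2) (h : RA 3 (POmega F (quadFormPlus 4 F))) :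
    Cov XP 1 3 (POmega F (quadFormPlus 4 F)) :=
  one_xp h (bd_o82 F hF)

theorem u62 (hF : Fintype.card F = 4) (h : RA 3 (PSU 6 F 2)) : Cov XP 1 3 (PSU 6 F 2) :=
  one_xp h (bd_u62 F hF)

theorem g24 (hF : Fintype.card F = 4) (h : RA 3 ↥(chevG2.group F)) : Cov XP 1 3 ↥(chevG2.group F) :=
  one_small h (by rw [S1059.result hF]; decide)

theorem f42 (hF : Fintype.card F = 2) (h : RA 3 ↥(chevF4.group F)) : Cov XP 1 3 ↥(chevF4.group F) :=
  one_xp h (bd_f42 F (by rw [hF]; decide))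

theorem e62 (hF : Fintype.card F = 4) (h : RA 3 ↥(twistedE6 F 2)) : Cov XP 1 3 ↥(twistedE6 F 2) :=
  one_xp h (bd_e62 F hF)

end Cfsg.Agent.BZ.X.One
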