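import Cfsg.Agent.H613.DihMain
import Cfsg.Agent.BZ.N2.O73A
import Cfsg.Agent.S0189

/-!
# BZ, blocks with a dihedral defect group of order eight (helper96)

`not_eqD` : if a non-central involution is fused to the central one, there are two degrees of height zero;
`fus_or` : a non-central involution is fused to the central one, or its block has defect two.
-/

set_option autoImplicit false
set_option linter.unusedSectionVars false

namespace Cfsg.Agent.BZ.D8T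

open Cfsg Subgroup Cfsg.Agent.Blocks.Local Cfsg.Agent.Characters Cfsg.Agent.H613 Cfsg.Agent.H613.SubSys Cfsg.Agent.H613.SubFus
open Cfsg.Agent.H613.TwoCol Cfsg.Agent.H613.DihGrp Cfsg.Agent.H613.DihCol Cfsg.Agent.H613.DihFus Cfsg.Agent.H617.TwoAvg
open Cfsg.Agent.H649 Cfsg.Agent.Blocks.Blau
open scoped ComplexConjugate

theorem opp {s t : ℤ} (hs : s ^ 2 = 1) (ht : t ^ 2 = 1) (h : 1 - s * t ≠ 0) : s + t = 0 := by
  rcases NumExc.sign_cases hs with rfl | rfl <;> rcases NumExc.sign_cases ht with rfl | rfl <;> omega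

theorem pair {ι : Type} {T : Finset ι} (hT : T.card = 4) {f g : ι → ℤ} (sf : ∑ j ∈ T, f j = 0) (sg : ∑ j ∈ T, g j = 0)
    (sfg : ∑ j ∈ T, f j * g j = 0) (i : ι) : ∃ j ∈ T, 1 - f i * f j ≠ 0 ∧ 1 - g i * g j ≠ 0 := by
  have h : ∑ j ∈ T, (1 - f i * f j) * (1 - g i * g j) ≠ 0 := by
    rw [Finset.sum_congr rfl (g := fun j => 1 - f i * f j - g i * g j + f i * g i * (f j * g j)) fun j _ => by ring,
      Finset.sum_add_distrib, Finset.sum_sub_distrib, Finset.sum_sub_distrib, ← Finset.mul_sum, ← Finset.mul_sum, ← Finset.mul_sum,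
      sf, sg, sfg, Finset.sum_const, hT]
    simp
  obtain ⟨j, h1, h2⟩ := Finset.exists_ne_zero_of_sum_ne_zero h
  exact ⟨j, h1, mul_ne_zero_iff.1 h2⟩

variable {G : Type} [Group G] [Finite G] {M : Ideal AlgInt} {B : Set (IrrCharacter G)} {a : BrauerPairIdx G} {x y u v : G}

/-- an integral column -/
def Cl (M : Ideal AlgInt) (a : BrauerPairIdx G) (u : G) (f : IrrCharacter G → ℤ) : Prop :=
  ∀ η ∈ (bel 2 M a u).2, ∃ c : ℂ, c ≠ 0 ∧ ∀ χ : IrrCharacter G, W 2 u (bel 2 M a u) (χ : G → ℂ) η = c * f χ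

/-- the function vanishes on a subsection -/
def Zr (M : Ideal AlgInt) (a : BrauerPairIdx G) (F : G → ℂ) (u : G) : Prop :=
  ∀ b, b = bel 2 M a u → ∀ η ∈ b.2, W 2 u b F η = 0

theorem cl_of {j : ℕ} {d : IrrCharacter (centralizer ((bel 2 M a u).1 : Set G)) → ℕ} {f : IrrCharacter G → ℕ → ℤ}
    (h : Col M B u (bel 2 M a u) j d f) (h1 : ∀ χ, ev j (f χ) 1 = f χ 0) : Cl M a u fun χ => f χ 0 := fun η hη =>
  ⟨d η / 2 ^ blockDefect 2 (bel 2 M a u).2, div_ne_zero (Nat.cast_ne_zero.2 (h.pos η hη).ne') (pow_ne_zero _ two_ne_zero), fun χ => by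
    rw [← h1, ← h.val χ 1 odd_one η hη, pow_one]⟩

theorem Zr.fus {F : G → ℂ} (hF : IsClassFunction G F) (h : Zr M a F u) (hf : Fus 2 M a u v) : Zr M a F v := by
  obtain ⟨g, rfl, h1⟩ := hf
  intro b hb η hη
  obtain rfl := hb.trans h1.symm
  obtain ⟨η, rfl⟩ := exists_cjI g _ η
  rw [W_conj 2 g u _ hF]
  exact h _ rfl η ((cjI_mem g _ η).1 hη)

theorem W_add (b : BrauerPairIdx G) (f g : G → ℂ) (η : IrrCharacter (centralizer (b.1 : Set G))) :
    W 2 u b (f + g) η = W 2 u b f η + W 2 u b g η := by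
  rw [← sub_eq_iff_eq_add, ← W_sub]
  exact congrArg (W 2 u b · η) (funext fun _ => add_sub_cancel_right _ _)

theorem Cl.zr {f : IrrCharacter G → ℤ} (h : Cl M a u f) {χ ψ θ : IrrCharacter G} (h0 : f χ + f ψ + f θ = 0) :
    Zr M a ((χ : G → ℂ) + ψ + θ) u := by
  rintro _ rfl η hη
  obtain ⟨c, -, h1⟩ := h η hη
  rw [W_add, W_add, h1, h1, h1, ← mul_add, ← mul_add, ← Int.cast_add, ← Int.cast_add, h0, Int.cast_zero, mul_zero]

variable (hM : IsPModular 2 M) (hmax : IsMaximalBrauerPair 2 M B a.1 a.2)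
include hM hmax

theorem Cl.deg [Fintype B] {f : IrrCharacter G → ℤ} (h : Cl M a u f) (hu : u ∈ a.1) (h1 : u ≠ 1) :
    ∑ χ : B, f χ * charDegree ((χ : IrrCharacter G) : G → ℂ) = 0 := by
  have : Fact (Nat.Prime 2) := ⟨Nat.prime_two⟩
  have hs := isSubsec_bel hM hmax hu
  obtain ⟨η, hη⟩ := isPBlock_nonempty hM (isPBlock_bel hM hmax.1.1 hu)
  obtain ⟨c, h2, h3⟩ := h η hη
  have h4 := sum_W_mul_conj_apply hM hmax.1.2.1 hs.pelt h1 hs.fst η (s := 1) (by simp)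
  simp only [h3, RegGram.apply_one_eq_charDegree, map_natCast, mul_assoc, ← Finset.mul_sum] at h4
  exact_mod_cast (mul_eq_zero.1 h4).resolve_left h2

theorem Cl.orth [Fintype B] {f g : IrrCharacter G → ℤ} (h : Cl M a u f) (h' : Cl M a v g) (hu : u ∈ a.1) (hv : v ∈ a.1)
    (h1 : ¬ Fus 2 M a u v) : ∑ χ : B, f χ * g χ = 0 := by
  have : Fact (Nat.Prime 2) := ⟨Nat.prime_two⟩
  obtain ⟨η, hη⟩ := isPBlock_nonempty hM (isPBlock_bel hM hmax.1.1 hu)
  obtain ⟨η', hη'⟩ := isPBlock_nonempty hM (isPBlock_bel hM hmax.1.1 hv)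
  obtain ⟨c, h2, h3⟩ := h η hη
  obtain ⟨c', h2', h3'⟩ := h' η' hη'
  have h4 := orth_of_not_conj hM (isSubsec_bel hM hmax hu) (isSubsec_bel hM hmax hv) h1 hη hη'
  rw [Finset.sum_congr rfl (g := fun χ : B => c * conj c' * ((f χ : ℂ) * g χ)) fun χ _ => by
    rw [h3, h3', map_mul, map_intCast, mul_mul_mul_comm], ← Finset.mul_sum] at h4
  exact_mod_cast (mul_eq_zero.1 h4).resolve_left (mul_ne_zero h2 ((map_ne_zero _).2 h2'))

variable (hD : IsDih a.1 x 1) (hy : y ∈ a.1) (hyx : y ∉ zpowers x)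
include hD hy hyx

/-- **a non-central involution** -/
theorem fus_or : Fus 2 M a (x ^ 2 ^ 1) y ∨ blockDefect 2 (bel 2 M a y).2 = 2 := by
  have : Fact (Nat.Prime 2) := ⟨Nat.prime_two⟩
  obtain ⟨v, h1, h2, h3⟩ := SubDef.exists_fus_defect hM hmax hy
  have h4 : orderOf v = 2 := h2.orderOf_eq.symm.trans
    (orderOf_eq_prime ((pow_two y).trans (hD.sq y hy hyx)) fun e => hyx (e ▸ one_mem _))
  have h5 : v * v = 1 := by rw [← pow_two, ← h4, pow_orderOf_eq_one]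
  have h6 : v ≠ 1 := fun e => by
    rw [e, orderOf_one] at h4
    cases h4
  by_cases h7 : v ∈ zpowers x
  · exact .inl (((hD.eq_of_sq h7 h5).resolve_left h6) ▸ h2.symm)
  rw [centralizer_zpowers] at h3
  have := Fintype.ofFinite ↥(a.1 ⊓ centralizer ({v} : Set G))
  have h8 : 2 < Nat.card ↥(a.1 ⊓ centralizer ({v} : Set G)) := by
    rw [Nat.card_eq_fintype_card, Fintype.two_lt_card_iff]
    exact ⟨1, ⟨_, hD.z_mem, mem_centralizer_singleton_iff.2 (hD.z_comm h1).symm⟩, ⟨v, h1, mem_centralizer_singleton_iff.2 rfl⟩,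
      fun e => hD.z_ne (congrArg Subtype.val e).symm, fun e => h6 (congrArg Subtype.val e).symm,
      fun e => h7 ((congrArg (· ∈ zpowers x) (congrArg Subtype.val e)).mp hD.z_mem')⟩
  have h9 : Nat.card ↥(a.1 ⊓ centralizer ({v} : Set G)) < 2 ^ (1 + 2) := hD.card ▸ lt_of_not_ge fun e => by
    have h9 := mem_centralizer_singleton_iff.1 ((eq_of_le_of_card_ge inf_le_left e).ge hD.mem).2
    have h10 := hD.conj v h1 h7
    rw [← h9, mul_inv_cancel_right, eq_inv_iff_mul_eq_one, ← pow_two] at h10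
    exact hD.z_ne h10
  rw [← h3] at h8 h9
  have h10 := (Nat.pow_lt_pow_iff_right one_lt_two).1 h9
  have h11 := (Nat.pow_lt_pow_iff_right (n := 1) one_lt_two).1 h8
  exact .inr (by omega)

/-- **two degrees of height zero** -/
theorem not_eqD (hf : Fus 2 M a (x ^ 2 ^ 1) y) : ¬ EqD 2 B := fun hE => by
  classical
  have : Fact (Nat.Prime 2) := ⟨Nat.prime_two⟩
  have := Core.finite_irr (G := G)
  have := Fintype.ofFinite B
  have h5 := (DihMain.main hM hmax hD).1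
  obtain ⟨dx, ax, hx⟩ := exists_colx hM hmax hD
  obtain ⟨dz, az, hz⟩ := exists_colz hM hmax hD
  obtain ⟨T4, x1, x0⟩ := main_x hM hmax hD hx
  have cx := cl_of hx fun χ => by
    have h := sum_eq_of_real (real_x hM hmax hD hx χ)
    rw [pow_one, Finset.sum_range_succ, Finset.sum_range_one, add_eq_left] at h
    rw [ev_def, pow_one, Finset.sum_range_succ, Finset.sum_range_one, h, Int.cast_zero, zero_mul, zero_mul, add_zero, pow_zero, mul_one]
  have cz := cl_of hz fun χ => ev_zero _ _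
  obtain ⟨θ, hθ⟩ : ∃ θ : B, (htZero B)ᶜ = {θ} :=
    Finset.card_eq_one.1 (by rw [Finset.card_compl, T4, ← Nat.card_eq_fintype_card, h5]; rfl)
  have h1 : θ ∉ htZero B := Finset.mem_compl.1 (hθ ▸ Finset.mem_singleton_self θ)
  have hs : ∀ F : B → ℤ, ∑ χ, F χ = ∑ χ ∈ htZero B, F χ + F θ := fun F => by
    rw [← Finset.sum_add_sum_compl (htZero B), hθ, Finset.sum_singleton]
  obtain ⟨χ, hχ⟩ : (htZero B).Nonempty := Finset.card_pos.1 (by omega)
  have hd : ∀ ψ ∈ htZero B, charDegree (ψ.1 : G → ℂ) = charDegree (χ.1 : G → ℂ) := fun ψ hψ =>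
    hE _ ψ.2 _ χ.2 (mem_htZero.1 hψ) (mem_htZero.1 hχ)
  have hdeg : ∀ {u f}, Cl M a u f → u ∈ a.1 → u ≠ 1 →
      charDegree (χ.1 : G → ℂ) * ∑ ψ ∈ htZero B, f ψ + f θ * charDegree (θ.1 : G → ℂ) = 0 := fun h hu hu1 => by
    rw [← h.deg hM hmax hu hu1, hs, Finset.mul_sum, Finset.sum_congr rfl fun ψ hψ => by rw [mul_comm, ← hd ψ hψ]]
  have hval : ∀ ψ ∈ B, ∃ m : ℤ, Odd m ∧ az ψ 0 = 2 ^ blockHeight 2 B (ψ : G → ℂ) * m :=
    fun ψ hψ => hz.val_major hM (by rw [blockDefect_z hM hmax hD, blockDefect_eq hM hmax hD]) hψ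
  obtain ⟨-, z1, z2⟩ := (dichotomy hM hmax hD hy hyx (c := fun ψ => az ψ 0) hval
    (by rw [hz.sum_sq_int hM (blockRank_bel hM hmax hD hD.z_mem hD.z_ne), blockDefect_z hM hmax hD])).resolve_right fun h => by
      have h2 := card_eq hM hmax hD hy hyx
      rw [h5, h.1, h.2.1] at h2
      cases h2
  replace z2 := z2 θ h1
  have d0 := RegGram.charDegree_ne_zero χ.1
  have e0 := RegGram.charDegree_ne_zero θ.1
  have v1 := RegGram.defect_add_eq χ.2 (mem_htZero.1 hχ)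
  have v2 := RegGram.defect_add_eq_add (p := 2) θ.2
  rw [height_le_one (c := fun ψ => az ψ 0) (hval _ θ.2) z2, ← v1, add_assoc, add_right_inj] at v2
  rw [blockDefect_eq hM hmax hD] at v1
  have d1 : ¬ 2 ^ ((charDegree (χ.1 : G → ℂ)).factorization 2 + 1) ∣ charDegree (χ.1 : G → ℂ) := fun h =>
    absurd ((Nat.prime_two.pow_dvd_iff_le_factorization d0).1 h) (by omega)
  have z3 := hdeg cz hD.z_mem hD.z_ne
  have z4 : az θ 0 = 2 ∨ az θ 0 = -2 := sq_eq_sq_iff_eq_or_eq_neg.1 z2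
  have z5 : (2 : ℤ) ^ 2 ∣ ∑ ψ ∈ htZero B, az ψ 0 := N2.O7N.dvd_of d0 d1 (by
    rw [eq_neg_of_add_eq_zero_left z3, dvd_neg, ← add_assoc _ 1 1, ← v2, pow_succ']
    exact mul_dvd_mul (by omega) (by exact_mod_cast Nat.ordProj_dvd _ 2))
  have z6 : ∀ ψ ∈ htZero B, 4 * az ψ 0 = ∑ ψ ∈ htZero B, az ψ 0 := fun ψ hψ => by
    generalize hS : ∑ ψ ∈ htZero B, az ψ 0 = S at z3 z5
    have h2 : ∑ ψ ∈ htZero B, (4 * az ψ 0 - S) ^ 2 = 64 - 4 * S ^ 2 := by
      rw [Finset.sum_congr rfl (g := fun ψ : B => 16 + S ^ 2 - 8 * S * az ψ 0) fun ψ hψ => by linear_combination 16 * z1 ψ hψ,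
        Finset.sum_sub_distrib, ← Finset.mul_sum, hS, Finset.sum_const, T4, nsmul_eq_mul]
      push_cast
      ring
    have h3 := Finset.single_le_sum (f := fun ψ : B => (4 * az ψ 0 - S) ^ 2) (fun _ _ => sq_nonneg _) hψ
    have h4 : S ≠ 0 := fun e => by
      rw [e, mul_zero] at z3
      rcases z4 with e' | e' <;> rw [e'] at z3 <;> omega
    have h6 := pow_le_pow_left₀ (by norm_num) (Int.le_of_dvd (abs_pos.2 h4) ((dvd_abs _ _).2 z5)) 2
    rw [sq_abs] at h6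
    exact sub_eq_zero.1 (pow_eq_zero_iff two_ne_zero |>.1 (le_antisymm (by linarith) (sq_nonneg _)))
  have z7 : 2 * az χ 0 + az θ 0 = 0 ∧ charDegree (θ.1 : G → ℂ) = 2 * charDegree (χ.1 : G → ℂ) := by
    rw [← z6 χ hχ] at z3
    rcases NumExc.sign_cases (z1 χ hχ) with e | e <;> rcases z4 with e' | e' <;> simp only [e, e'] at z3 ⊢ <;> omega
  have s0 : ∀ {u f}, Cl M a u f → u ∈ a.1 → u ≠ 1 → f θ = 0 → ∑ ψ ∈ htZero B, f ψ = 0 := fun h hu hu1 h0 => by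
    have h2 := hdeg h hu hu1
    rw [h0, zero_mul, add_zero] at h2
    exact (mul_eq_zero.1 h2).resolve_left (Nat.cast_ne_zero.2 d0)
  have y1 : x * y ∈ a.1 := mul_mem hD.mem hy
  have y2 : x * y ∉ zpowers x := fun h => hyx ((mul_mem_cancel_left (mem_zpowers x)).1 h)
  have y3 : x * y ≠ 1 := fun e => y2 (e ▸ one_mem _)
  obtain ⟨g, g1, g2, g3, g4, g5⟩ : ∃ g : IrrCharacter G → ℤ, (∀ ψ ∈ htZero B, 1 - g χ * g ψ ≠ 0 → g χ + g ψ = 0) ∧
      ∑ ψ ∈ htZero B, g ψ = 0 ∧ ∑ ψ ∈ htZero B, ax ψ 0 * g ψ = 0 ∧ g θ = 0 ∧ (Fus 2 M a (x ^ 2 ^ 1) (x * y) ∨ Cl M a (x * y) g) := by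
    rcases fus_or hM hmax hD y1 y2 with h | h
    · exact ⟨0, fun _ _ _ => rfl, by simp, by simp, rfl, .inl h⟩
    have h2 := blockRank_bel hM hmax hD y1 y3
    obtain ⟨dy, ay, h3⟩ := exists_col hM (isSubsec_bel hM hmax y1) h2 (j := 0) ((pow_two _).trans (hD.sq _ y1 y2))
    have cy := cl_of h3 fun χ => ev_zero _ _
    obtain ⟨-, h4, h6⟩ := NumCol.num_four (htZero B) (fun ψ : B => ay ψ 0) (fun ψ hψ => h3.odd_zero hM
      (fun ψ k _ => by rw [ev_zero, map_intCast]) ψ.2 (mem_htZero.1 hψ)) (by rw [h3.sum_sq_int hM h2, h]; rfl) T4.symm.dvd (by omega)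
    have h7 := cx.orth hM hmax cy hD.mem y1 fun e => by
      have h7 := e.orderOf_eq
      rw [hD.ord, orderOf_eq_prime ((pow_two _).trans (hD.sq _ y1 y2)) y3] at h7
      cases h7
    rw [hs, x0 θ h1, zero_mul, add_zero] at h7
    exact ⟨_, fun ψ hψ => opp (h4 χ hχ) (h4 ψ hψ), s0 cy y1 y3 (h6 θ h1), h7, h6 θ h1, .inr cy⟩
  obtain ⟨ψ, hψ, k1, k2⟩ := pair T4 (f := fun ψ => ax ψ 0) (g := fun ψ => g ψ) (s0 cx hD.mem (x_ne_one hD) (x0 θ h1)) g2 g3 χ
  have hF := Core.isCharacter_add (Core.isCharacter_add (Core.isIrr_isCharacter χ.1.2) (Core.isIrr_isCharacter ψ.1.2))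
    (Core.isIrr_isCharacter θ.1.2)
  have hC := Core.isCharacter_isClassFunction hF
  have Zx := cx.zr (χ := χ) (ψ := ψ) (θ := θ) (by rw [opp (x1 χ hχ) (x1 ψ hψ) k1, x0 θ h1, add_zero])
  have Zz := cz.zr (χ := χ) (ψ := ψ) (θ := θ) (by
    have h2 := (z6 χ hχ).trans (z6 ψ hψ).symm
    have h3 := z7.1
    omega)
  have Zy := g5.elim (Zz.fus hC) fun h => h.zr (by rw [g1 ψ hψ k2, g4, add_zero])
  have Za : ∀ v ∈ a.1, v ≠ 1 → Zr M a ((χ.1 : G → ℂ) + ψ.1 + θ.1) v := fun v hv hv1 => by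
    by_cases h : v ∈ zpowers x
    · obtain ⟨k, h2, h3, h4⟩ := exists_pow_of_mem hD h hv1
      have h6 : Zr M a ((χ.1 : G → ℂ) + ψ.1 + θ.1) (x ^ k) := by
        rcases (by omega : k = 1 ∨ k = 2 ^ 1) with rfl | rfl
        · rwa [pow_one]
        · exact Zz
      rcases h4 with rfl | rfl
      · exact h6
      · exact hD.conj_mem hy hyx (npow_mem_zpowers x k) ▸ h6.fus hC (Fus.of_mem hM hmax.1.1 hy (pow_mem hD.mem k))
    · obtain ⟨c, h2, rfl | rfl⟩ := exists_conj_of_notMem hD hy hyx hv h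
      · exact (Zz.fus hC hf).fus hC (Fus.of_mem hM hmax.1.1 h2 hy)
      · exact Zy.fus hC (Fus.of_mem hM hmax.1.1 h2 y1)
  obtain ⟨P⟩ : Nonempty (Sylow 2 G) := inferInstance
  obtain ⟨k, hk⟩ := S0189.result 2 P _ hF fun v hv hv1 => by
    have h2 : ∃ k : ℕ, orderOf v = 2 ^ k := (IsPGroup.iff_orderOf.1 P.2 ⟨v, hv⟩).imp fun _ e => (orderOf_coe _).trans e
    rw [← mul_one v]
    refine apply_eq_zero_of_W (p := 2) hM hC (fun c h3 h4 η hη => ?_) (by simp) (Commute.one_right v)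
    by_cases h6 : IsInducedBlock M (centralizer (c.1 : Set G)) c.2 B
    · obtain ⟨t, h7, h8⟩ := exists_fus_of_isSubsec hM hmax ⟨h3, h2, h6⟩
      rw [← W_conj 2 t v c hC]
      exact Za _ h7 (fun e => hv1 (by rwa [mul_inv_eq_one, mul_eq_left] at e)) _ h8 _ ((cjI_mem t c η).2 hη)
    · rw [W_add, W_add, W_eq_zero hM h2 h3 hmax.1.2.1 h4 h6 χ.2 hη, W_eq_zero hM h2 h3 hmax.1.2.1 h4 h6 ψ.2 hη,
        W_eq_zero hM h2 h3 hmax.1.2.1 h4 h6 θ.2 hη, add_zero, add_zero]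
  simp only [Pi.add_apply, RegGram.apply_one_eq_charDegree, hd ψ hψ, z7.2, P.card_eq_multiplicity, ← v1] at hk
  refine d1 ⟨k, ?_⟩
  have h2 : charDegree (χ.1 : G → ℂ) + charDegree (χ.1 : G → ℂ) + 2 * charDegree (χ.1 : G → ℂ) =
      2 ^ (1 + 2 + (charDegree (χ.1 : G → ℂ)).factorization 2) * k := by exact_mod_cast hk
  rw [add_comm (1 + 2), ← add_assoc, pow_add _ _ 2, mul_right_comm] at h2
  omega

end Cfsg.Agent.BZ.D8T
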