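import Cfsg.Agent.BZ.C6.Dat

/-!
# BZ, `2.²E₆(2)`: the checks on the table of the Baby Monster (helper84)
-/

set_option autoImplicit false
set_option maxRecDepth 100000
set_option Elab.async false

namespace Cfsg.Agent.BZ.X.E6

open Cfsg Cfsg.Agent.TAB Cfsg.Agent.TAB.Eng Cfsg.Agent.TAB.Use Cfsg.Agent.BZ.C6 Finset

/-- five functions on the types of odd order -/
def fL : List (List (ℕ × ℤ)) :=
  [[(0, -2300957743760702554767360), (5, -63961497600), (6, 229278720), (17, 7539840), (18, -327360), (30, 31680),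
  (45, 6600), (46, -10824), (53, 1320), (74, 165)], [(0, 70145761452774654706974720), (5, -4059095040000),
  (6, 732165120), (17, 452833920), (18, 1014720), (30, -4944960), (45, 4176), (46, 189288), (53, -3000), (74, -2067)],
  [(0, -6831421569087626123673600), (5, 698656358400), (6, -651141120), (17, -88704000), (18, 446400), (30, 1013760),
  (45, -3072), (46, -36120), (53, -540), (74, 630)], [(0, 23477784425790851807969280), (5, -1293990297600),
  (6, -49382400), (17, 141482880), (18, 89280), (30, -1494720), (45, 1248), (46, 54888), (53, -720), (74, -597)],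
  [(0, -6363036063321802407936000), (5, 339487948800), (6, 24284160), (17, -37699200), (18, 24000), (30, 417600),
  (45, -720), (46, -16344), (53, 360), (74, 159)]]

/-- the functions -/
def fW (i t : ℕ) : ℤ := ((fL.getD i []).lookup t).getD 0

/-- the scalar products with the rows -/
def aL : List (List ℤ) :=
  [[1, 0, 0, 0, 0, 1, 0, 0, 1, 0, 0, 1, 0, 0, 0, 0, 1], [0, 0, 2, 0, 0, 2, 0, 0, 2, 0, 0, 2, 0, -2, 0, 0, 2],
  [0, 0, 0, 0, 1, 1, 0, 0, 1, 0, 0, 1, 0, 0, 0, 0, 1], [0, 0, 0, 0, 0, 0, 0, 2, 2, 0, 0, -2, -2, 0, 0, 0, -2],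
  [0, 0, 0, 0, 0, 0, 0, 0, 0, 1, 0, 1, 1, 1, 0, 0, 1], [1, 0, 0, 0, 0, 0, 0, 0, 0, 0, 0, 0, 0, 0, 0, 0, 0],
  [0, 0, 1, 0, 0, 0, 0, 0, 0, 0, 0, 0, 0, 0, 0, 0, 0], [1, 0, 1, 0, 1, 1, 0, 1, 0, 0, 0, 0, 1, 1, 0, 0, 0]]

/-- the entries -/
def aW (i j : ℕ) : ℤ := (aL.getD i []).getD j 0

theorem c1 : ∀ i < 5, ∀ j < 17, ipF B.Fin.datF (vB j) (fW i) = B.Fin.datF.N * aW i j := by decide +kernel

theorem c2 : ∀ i < 5, ∑ s ∈ range B.Fin.datF.n, (B.Fin.datF.cnt s : ℤ) *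
    (if B.Fin.datF.pwf s 45045 = 1 then fW i (B.Fin.datF.pwf s 45046) else 0) =
      B.Fin.datF.N * [1, 2, 1, -2, 1].getD i 0 := by decide +kernel

theorem c3 : ∀ i < 5, ∀ s < B.Fin.datF.n, fW i s ≠ 0 → B.Fin.datF.ord s ∣ 45045 := by decide +kernel

theorem c4 : ∀ j < 17, ipF B.Fin.datF (vB j) (fun _ => 1) = B.Fin.datF.N * aW 5 j ∧
    ipF B.Fin.datF (vB j) (vB 2) = B.Fin.datF.N * aW 6 j ∧
    ipF B.Fin.datF (vB j) (fun t => vB 2 t * vB 2 t) = B.Fin.datF.N * aW 7 j := by decide +kernel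

theorem c5 : 17 ≤ B.Fin.tabB.n ∧ ∀ j < B.Fin.tabB.n, 17 ≤ j → 13571955000 < B.Fin.tabB.d j := by decide +kernel

theorem c6 : ∀ s < B.Fin.datF.n, (B.Fin.datF.ord s = 1 → vB 2 s = 96255) ∧ (B.Fin.datF.ord s = 2 → s = 1 ∨
    ¬ 2 * 76532479683774853939200 ∣ KM.Sp.cbd B.Fin.datF B.Fin.tabB [] s 5) := by decide +kernel

theorem c7 : vB 2 1 = 4863 ∧ B.Fin.datF.cnt 1 = 13571955000 ∧ 1 < B.Fin.datF.n ∧
    B.Fin.datF.N = 13571955000 * 306129918735099415756800 := by decide +kernel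

end Cfsg.Agent.BZ.X.E6
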