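import Cfsg.Agent.BZ.Defs
import Cfsg.Agent.H613.DihMain

/-!
# BZ : blocks with a dihedral defect group of order eight and two classes of involutions (helper88)

* `num` : the arithmetic of the three columns;
* `not_eqD` : the members of height zero have two degrees;
* `fus_of_ne` : an involution whose block does not have defect two is fused to the centre.
-/

set_option autoImplicit false
set_option linter.unusedSectionVars false

namespace Cfsg.Agent.BZ.X.O7H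

open Cfsg Subgroup
open scoped ComplexConjugate
open Cfsg.Agent.Blocks.Blau Cfsg.Agent.Blocks.Local Cfsg.Agent.Characters
open Cfsg.Agent.H613.SubSys Cfsg.Agent.H613.SubFus Cfsg.Agent.H613.DihGrp
open Cfsg.Agent.H613.DihFus Cfsg.Agent.H613.SubDef Cfsg.Agent.H613.TwoCol Cfsg.Agent.H613.DihCol
open Cfsg.Agent.H613.RegGram Cfsg.Agent.H649 Cfsg.Agent.H617.TwoAvg

theorem numA {d e z1 z2 z3 z4 z5 x1 x2 x3 x4 : ℤ} (hd : 0 < d) (he : 0 < e) (a1 : z1 ^ 2 = 1) (a2 : z2 ^ 2 = 1)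
    (a3 : z3 ^ 2 = 1) (a4 : z4 ^ 2 = 1) (a5 : z5 = 2 ∨ z5 = -2) (b1 : x1 ^ 2 = 1) (b2 : x2 ^ 2 = 1) (b3 : x3 ^ 2 = 1)
    (b4 : x4 ^ 2 = 1) (o1 : z1 * d + z2 * d + z3 * d + z4 * d + z5 * e = 0) (o2 : x1 + x2 + x3 + x4 = 0)
    (o4 : z1 * x1 + z2 * x2 + z3 * x3 + z4 * x4 = 0) : z2 = z1 ∧ z3 = z1 ∧ z4 = z1 ∧ z5 = -2 * z1 ∧ e = 2 * d := by
  rw [sq_eq_one_iff] at a1 a2 a3 a4 b1 b2 b3 b4
  rcases a1 with rfl | rfl <;> rcases a2 with rfl | rfl <;> rcases a3 with rfl | rfl <;> rcases a4 with rfl | rfl <;>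
    rcases a5 with rfl | rfl <;> omega

theorem numB {t1 t2 t3 t4 x1 x2 x3 x4 : ℤ} (a1 : t1 ^ 2 = 1) (a2 : t2 ^ 2 = 1) (a3 : t3 ^ 2 = 1) (a4 : t4 ^ 2 = 1)
    (b1 : x1 ^ 2 = 1) (b2 : x2 ^ 2 = 1) (b3 : x3 ^ 2 = 1) (b4 : x4 ^ 2 = 1) (o2 : x1 + x2 + x3 + x4 = 0)
    (o3 : t1 + t2 + t3 + t4 = 0) (o6 : t1 * x1 + t2 * x2 + t3 * x3 + t4 * x4 = 0) :
    (1 + x1 * t1) / 2 + (1 + x2 * t2) / 2 + (1 + x3 * t3) / 2 + (1 + x4 * t4) / 2 = 2 ∧
    (1 + x1 * t1) / 2 * x1 + (1 + x2 * t2) / 2 * x2 + (1 + x3 * t3) / 2 * x3 + (1 + x4 * t4) / 2 * x4 = 0 ∧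
    (1 + x1 * t1) / 2 * t1 + (1 + x2 * t2) / 2 * t2 + (1 + x3 * t3) / 2 * t3 + (1 + x4 * t4) / 2 * t4 = 0 := by
  rw [sq_eq_one_iff] at a1 a2 a3 a4 b1 b2 b3 b4
  rcases a1 with rfl | rfl <;> rcases a2 with rfl | rfl <;> rcases a3 with rfl | rfl <;> rcases a4 with rfl | rfl <;>
    rcases b1 with rfl | rfl <;> rcases b2 with rfl | rfl <;> rcases b3 with rfl | rfl <;> rcases b4 with rfl | rfl <;>
    omega

theorem odd_sq {t : ℤ} (h : Odd t) : t ^ 2 = 1 ∨ 9 ≤ t ^ 2 := by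
  obtain ⟨k, rfl⟩ := h
  rcases lt_trichotomy k 0 with h | rfl | h
  · rcases eq_or_lt_of_le (show k ≤ -1 by omega) with rfl | h
    · exact Or.inl (by norm_num)
    · exact Or.inr (by nlinarith)
  · exact Or.inl (by norm_num)
  · exact Or.inr (by nlinarith)

/-- the arithmetic of the three columns -/
theorem num {ι : Type} [Fintype ι] (H : Finset ι) (h4 : H.card = 4) (g z x t : ι → ℤ) {d : ℤ} (hg : ∀ i ∈ H, g i = d)
    (hp : ∀ i, 0 < g i) (z1 : ∀ i ∈ H, z i ^ 2 = 1) (z2 : ∀ i ∉ H, z i ^ 2 = 4) (z3 : ∑ i, z i ^ 2 = 8)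
    (x1 : ∀ i ∈ H, x i ^ 2 = 1) (x2 : ∀ i ∉ H, x i = 0) (t1 : ∀ i ∈ H, Odd (t i)) (t2 : ∑ i, t i ^ 2 ≤ 8)
    (o1 : ∑ i, z i * g i = 0) (o2 : ∑ i, x i * g i = 0) (o3 : ∑ i, t i * g i = 0) (o4 : ∑ i, z i * x i = 0)
    (o5 : ∑ i, t i * z i = 0) (o6 : ∑ i, t i * x i = 0) :
    ∃ ε : ι → ℤ, ∑ i, ε i * z i = 0 ∧ ∑ i, ε i * x i = 0 ∧ ∑ i, ε i * t i = 0 ∧ ∑ i, ε i * g i = 4 * d := by
  classical
  have h1 : Hᶜ.card = 1 := by
    rw [← Finset.sum_add_sum_compl H, Finset.sum_congr rfl z1, Finset.sum_congr rfl fun i hi => z2 i (Finset.mem_compl.1 hi),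
      Finset.sum_const, Finset.sum_const, h4, nsmul_eq_mul, nsmul_eq_mul] at z3
    omega
  obtain ⟨ψ, hψ⟩ := Finset.card_eq_one.1 h1
  have h2 : ψ ∉ H := Finset.mem_compl.1 (hψ ▸ Finset.mem_singleton_self ψ)
  obtain ⟨a, b, c, e, n1, n2, n3, n4, n5, n6, hH⟩ := Finset.card_eq_four.1 h4
  have key : ∀ F : ι → ℤ, ∑ i, F i = F a + F b + F c + F e + F ψ := fun F => by
    rw [← Finset.sum_add_sum_compl H, hψ, Finset.sum_singleton, hH, Finset.sum_insert (by simp [n1, n2, n3]),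
      Finset.sum_insert (by simp [n4, n5]), Finset.sum_insert (by simp [n6]), Finset.sum_singleton]
    ring
  have ma : a ∈ H := by simp [hH]
  have mb : b ∈ H := by simp [hH]
  have mc : c ∈ H := by simp [hH]
  have me : e ∈ H := by simp [hH]
  have hd : 0 < d := hg a ma ▸ hp a
  rw [key] at t2 o1 o2 o3 o4 o5 o6
  rw [hg a ma, hg b mb, hg c mc, hg e me] at o1 o2 o3
  rw [x2 ψ h2] at o2 o4 o6
  have p2 : x a + x b + x c + x e = 0 := (mul_eq_zero.1 (show (x a + x b + x c + x e) * d = 0 by linarith)).resolve_right hd.ne'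
  obtain ⟨q1, q2, q3, q4, q5⟩ := numA hd (hp ψ) (z1 a ma) (z1 b mb) (z1 c mc) (z1 e me)
    (sq_eq_sq_iff_eq_or_eq_neg.1 ((z2 ψ h2).trans (by norm_num))) (x1 a ma) (x1 b mb) (x1 c mc) (x1 e me) o1 p2 (by linarith)
  rw [q1, q2, q3, q4] at o5
  rw [q5] at o3
  have p3 : t a + t b + t c + t e + 2 * t ψ = 0 :=
    (mul_eq_zero.1 (show (t a + t b + t c + t e + 2 * t ψ) * d = 0 by linarith)).resolve_right hd.ne'
  have p5 : t a + t b + t c + t e - 2 * t ψ = 0 :=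
    (mul_eq_zero.1 (show (t a + t b + t c + t e - 2 * t ψ) * z a = 0 by linarith)).resolve_right fun h => by
      have := z1 a ma
      rw [h] at this
      omega
  have s0 := sq_nonneg (t ψ)
  have sa := odd_sq (t1 a ma)
  have sb := odd_sq (t1 b mb)
  have sc := odd_sq (t1 c mc)
  have se := odd_sq (t1 e me)
  obtain ⟨r1, r2, r3⟩ := numB (t1 := t a) (t2 := t b) (t3 := t c) (t4 := t e) (by omega) (by omega) (by omega) (by omega)
    (x1 a ma) (x1 b mb) (x1 c mc) (x1 e me) p2 (by omega) (by linarith)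
  refine ⟨fun i => if i ∈ H then (1 + x i * t i) / 2 else 1, ?_, ?_, ?_, ?_⟩ <;>
    simp only [key, if_pos ma, if_pos mb, if_pos mc, if_pos me, if_neg h2]
  · rw [q1, q2, q3, q4]
    linear_combination z a * r1
  · rw [x2 ψ h2]
    linarith
  · rw [show t ψ = 0 by omega]
    linarith
  · rw [hg a ma, hg b mb, hg c mc, hg e me, q5]
    linear_combination d * r1

variable {G : Type} [Group G] [Finite G] {M : Ideal AlgInt} {B : Set (IrrCharacter G)} {a : BrauerPairIdx G} {x t : G}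

theorem deg_orth [Fintype B] (hM : IsPModular 2 M) (hB : IsPBlock M B) {u : G} {b : BrauerPairIdx G} {j : ℕ}
    {d : IrrCharacter (centralizer (b.1 : Set G)) → ℕ} {c : IrrCharacter G → ℕ → ℤ} (h : Col M B u b j d c) (hu : u ≠ 1) :
    ∑ χ : B, ev j (c χ) 1 * (charDegree ((χ : IrrCharacter G) : G → ℂ) : ℂ) = 0 := by
  have : Fact (Nat.Prime 2) := ⟨Nat.prime_two⟩
  obtain ⟨η, hη⟩ := h.nonempty hM
  have h1 := sum_W_mul_conj_apply hM hB h.sub.pelt hu h.sub.fst η (s := 1) (by simp)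
  have h2 : ∀ χ : B, W 2 u b ((χ : IrrCharacter G) : G → ℂ) η * conj (((χ : IrrCharacter G) : G → ℂ) 1) =
      (d η : ℂ) / 2 ^ blockDefect 2 b.2 * (ev j (c χ) 1 * (charDegree ((χ : IrrCharacter G) : G → ℂ) : ℂ)) := fun χ => by
    have h3 := h.val χ 1 odd_one η hη
    rw [pow_one] at h3
    rw [h3, apply_one_eq_charDegree, map_natCast, mul_assoc]
  rw [Finset.sum_congr rfl fun χ _ => h2 χ, ← Finset.mul_sum] at h1
  exact (mul_eq_zero.1 h1).resolve_left (div_ne_zero (Nat.cast_ne_zero.2 (h.pos η hη).ne') (pow_ne_zero _ two_ne_zero))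

theorem ev_x (hM : IsPModular 2 M) (hmax : IsMaximalBrauerPair 2 M B a.1 a.2) (hD : IsDih a.1 x 1)
    {d : IrrCharacter (centralizer ((bel 2 M a x).1 : Set G)) → ℕ} {c : IrrCharacter G → ℕ → ℤ}
    (hx : Col M B x (bel 2 M a x) 1 d c) (χ : IrrCharacter G) : ev 1 (c χ) 1 = (c χ 0 : ℂ) := by
  have h1 := sum_ev 1 (c χ)
  rw [show oddSet (1 + 1) = {1, 3} by decide, Finset.sum_pair (by decide), ← conj_ev (k := 1) (k' := 3) (c χ) (by decide),
    real_x hM hmax hD hx χ 1 (by decide)] at h1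
  linear_combination (1 / 2 : ℂ) * h1

/-- a combination which is orthogonal to a column -/
theorem W_zero [Fintype B] {u : G} {b : BrauerPairIdx G} {j : ℕ} {d : IrrCharacter (centralizer (b.1 : Set G)) → ℕ}
    {c : IrrCharacter G → ℕ → ℤ} (h : Col M B u b j d c) {ε : B → ℂ} (h0 : ∑ χ : B, ε χ * ev j (c χ) 1 = 0)
    {η : IrrCharacter (centralizer (b.1 : Set G))} (hη : η ∈ b.2) :
    ∑ χ : B, ε χ * W 2 u b ((χ : IrrCharacter G) : G → ℂ) η = 0 := by
  have h2 : ∀ χ : B, ε χ * W 2 u b ((χ : IrrCharacter G) : G → ℂ) η =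
      (d η : ℂ) / 2 ^ blockDefect 2 b.2 * (ε χ * ev j (c χ) 1) := fun χ => by
    have h3 := h.val χ 1 odd_one η hη
    rw [pow_one] at h3
    rw [h3, mul_left_comm]
  rw [Finset.sum_congr rfl fun χ _ => h2 χ, ← Finset.mul_sum, h0, mul_zero]

/-- a combination which is orthogonal to all columns -/
theorem dvd_of_sys [Fintype B] (hM : IsPModular 2 M) (hB : IsPBlock M B) {ι : Type} {u : ι → G} {b : ι → BrauerPairIdx G}
    (h : IsSys 2 M B u b) (ε : B → ℤ) (h0 : ∀ i, ∀ η ∈ (b i).2, ∑ χ : B, (ε χ : ℂ) * W 2 (u i) (b i) ((χ : IrrCharacter G) : G → ℂ) η = 0) :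
    (2 : ℤ) ^ (Nat.card G).factorization 2 ∣ ∑ χ : B, ε χ * (charDegree ((χ : IrrCharacter G) : G → ℂ) : ℤ) := by
  classical
  have : Fact (Nat.Prime 2) := ⟨Nat.prime_two⟩
  have := Core.finite_irr (G := G)
  have := Fintype.ofFinite (IrrCharacter G)
  have := Fintype.ofFinite G
  obtain ⟨k, hk⟩ := H648.HeightForm.dvd_of_vanish (p := 2)
    (f := fun g => ∑ χ : B, (ε χ : ℂ) * ((χ : IrrCharacter G) : G → ℂ) g) (fun ψ => if h : ψ ∈ B then ε ⟨ψ, h⟩ else 0)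
    (fun g => by
      rw [sum_eq_sum_coe B _ fun ζ hζ => by rw [dif_neg hζ, Int.cast_zero, zero_mul]]
      exact Finset.sum_congr rfl fun χ _ => by rw [dif_pos χ.2])
    fun g hg => by
      obtain ⟨v, y, rfl, hc, hv, hy⟩ := Cfsg.Agent.Blocks.PPart.exists_isPPart 2 g
      have hv1 : v ≠ 1 := fun e => hy (by rwa [e, one_mul] at hg)
      refine apply_eq_zero_of_W hM (isClassFunction_sum Finset.univ (fun χ : B => (ε χ : ℂ))
        (fun χ : B => ((χ : IrrCharacter G) : G → ℂ)) fun ψ _ => isClassFunction_coe (ψ : IrrCharacter G))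
        (fun c hc1 hc η hη => ?_) hy hc
      rw [W_sum]
      by_cases hi : IsInducedBlock M (centralizer (c.1 : Set G)) c.2 B
      · obtain ⟨i, k, rfl, rfl⟩ := h.surj v c ⟨hc1, hv, hi⟩ hv1
        obtain ⟨η', rfl⟩ := exists_cjI k (b i) η
        rw [Finset.sum_congr rfl fun ψ _ => by rw [W_conj 2 k (u i) (b i) (isClassFunction_coe (ψ : IrrCharacter G)) η']]
        exact h0 i η' ((cjI_mem k (b i) η').1 hη)
      · exact Finset.sum_eq_zero fun ψ _ => by rw [W_eq_zero hM hv hc1 hB hc hi ψ.2 hη, mul_zero]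
  refine ⟨k, Int.cast_injective (α := ℂ) ?_⟩
  push_cast
  rw [← show _ = (2 : ℂ) ^ _ * _ from hk]
  exact Finset.sum_congr rfl fun χ _ => by rw [apply_one_eq_charDegree]

theorem two_pow_le (hM : IsPModular 2 M) (hmax : IsMaximalBrauerPair 2 M B a.1 a.2) (hD : IsDih a.1 x 1) (ht : t ∈ a.1) :
    2 ^ blockDefect 2 (bel 2 M a t).2 ≤ 8 := by
  have : Fact (Nat.Prime 2) := ⟨Nat.prime_two⟩
  obtain ⟨v, -, -, h⟩ := exists_fus_defect hM hmax ht
  rw [h]
  exact (card_le_of_le inf_le_left).trans hD.card.le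

/-- **two classes of involutions** -/
theorem not_eqD (hM : IsPModular 2 M) (hmax : IsMaximalBrauerPair 2 M B a.1 a.2) (hD : IsDih a.1 x 1) (ht : t ∈ a.1)
    (htx : t ∉ zpowers x) (h1 : ¬ Fus 2 M a t (x ^ 2 ^ 1)) (h2 : Fus 2 M a (x ^ 2 ^ 1) (x * t)) : ¬ EqD 2 B := fun hE => by
  have : Fact (Nat.Prime 2) := ⟨Nat.prime_two⟩
  have hP := isPrime_of_isPModular hM
  have := Core.finite_irr (G := G)
  have := Fintype.ofFinite B
  have hB := hmax.1.2.1
  have t1 : t ≠ 1 := fun e => htx (e ▸ one_mem _)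
  have t2 : orderOf t = 2 := orderOf_eq_prime ((pow_two t).trans (hD.sq t ht htx)) t1
  obtain ⟨dx, ax, hx⟩ := exists_colx hM hmax hD
  obtain ⟨dz, az, hz⟩ := exists_colz hM hmax hD
  have hlt := blockRank_bel hM hmax hD ht t1
  obtain ⟨dt, ct, hc⟩ := exists_col hM (isSubsec_bel hM hmax ht) hlt (j := 0) (t2 ▸ pow_orderOf_eq_one t :)
  have hlz := blockRank_bel hM hmax hD hD.z_mem hD.z_ne
  have hs := hz.sum_sq_int hM hlz
  rw [blockDefect_z hM hmax hD] at hs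
  obtain ⟨m1, m2, m3⟩ := main_x hM hmax hD hx
  have hv : (∀ χ ∈ htZero B, az χ 0 ^ 2 = 1) ∧ ∀ χ ∉ htZero B, az χ 0 ^ 2 = 4 :=
    (dichotomy hM hmax hD ht htx (c := fun χ => az χ 0) (fun χ hχ => hz.val_major hM
      (by rw [blockDefect_z hM hmax hD, blockDefect_eq hM hmax hD]) hχ) hs).elim (fun h => h.2) fun h =>
      absurd ⟨h.1, h.2.1⟩ (H613.ExcH.exclusion hM hmax hD ht htx)
  obtain ⟨χ₀, h0⟩ := Finset.card_pos.1 (m1 ▸ by decide : 0 < (htZero B).card)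
  have ex := ev_x hM hmax hD hx
  have n1 : ¬ Fus 2 M a (x ^ 2 ^ 1) x := fun h => absurd (hD.orderOf_z.symm.trans (h.orderOf_eq.trans hD.ord)) (by decide)
  have n2 : ¬ Fus 2 M a t x := fun h => absurd (t2.symm.trans (h.orderOf_eq.trans hD.ord)) (by decide)
  have o1 := deg_orth hM hB hz hD.z_ne
  have o2 := deg_orth hM hB hx (x_ne_one hD)
  have o3 := deg_orth hM hB hc t1
  have o4 := hz.orth hM hx odd_one odd_one (by rw [pow_one x, pow_one (x ^ 2 ^ 1)]; exact n1)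
  have o5 := hc.orth hM hz odd_one odd_one (by rw [pow_one t, pow_one (x ^ 2 ^ 1)]; exact h1)
  have o6 := hc.orth hM hx odd_one odd_one (by rw [pow_one x, pow_one t]; exact n2)
  simp only [ev_zero, ex, map_intCast] at o1 o2 o3 o4 o5 o6
  obtain ⟨ε, e1, e2, e3, e4⟩ := num (htZero B) m1 (fun χ => (charDegree ((χ : IrrCharacter G) : G → ℂ) : ℤ))
    (fun χ => az χ 0) (fun χ => ax χ 0) (fun χ => ct χ 0) (d := charDegree ((χ₀ : IrrCharacter G) : G → ℂ))
    (fun χ hχ => congrArg _ (hE χ χ.2 χ₀ χ₀.2 (mem_htZero.1 hχ) (mem_htZero.1 h0)))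
    (fun χ => Int.natCast_pos.2 (Nat.pos_of_ne_zero (charDegree_ne_zero _))) hv.1 hv.2 hs m2 m3
    (fun χ hχ => hc.odd_zero hM (fun ψ k _ => by rw [ev_zero, map_intCast]) χ.2 (mem_htZero.1 hχ))
    (by rw [hc.sum_sq_int hM hlt]; exact_mod_cast two_pow_le hM hmax hD ht)
    (by exact_mod_cast o1) (by exact_mod_cast o2) (by exact_mod_cast o3) (by exact_mod_cast o4) (by exact_mod_cast o5)
    (by exact_mod_cast o6)
  have hS := isSys_of_reps hM hmax ![x, x ^ 2 ^ 1, t] (fun i => by fin_cases i; exacts [hD.mem, hD.z_mem, ht])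
    (fun i => by fin_cases i; exacts [x_ne_one hD, hD.z_ne, t1])
    (fun i j h => by
      fin_cases i <;> fin_cases j
      exacts [rfl, (n1 h.symm).elim, (n2 h.symm).elim, (n1 h).elim, rfl, (h1 h.symm).elim, (n2 h).elim, (h1 h).elim, rfl])
    fun v hv v1 => by
      by_cases hvx : v ∈ zpowers x
      · have f1 : Fus 2 M a x x⁻¹ := hD.conj t ht htx ▸ Fus.of_mem hM hmax.1.1 ht hD.mem
        obtain ⟨k, k1, k2, h⟩ := exists_pow_of_mem hD hvx v1
        interval_cases k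
        · rw [pow_one] at h
          exact ⟨0, h.elim (fun e => e ▸ Fus.refl _) fun e => e ▸ f1⟩
        · rw [show x ^ 2 = x ^ 2 ^ 1 from rfl, hD.z_inv, or_self] at h
          exact ⟨1, h ▸ Fus.refl _⟩
      · obtain ⟨c, c1, rfl | rfl⟩ := exists_conj_of_notMem hD ht htx hv hvx
        · exact ⟨2, Fus.of_mem hM hmax.1.1 c1 ht⟩
        · exact ⟨1, h2.trans (Fus.of_mem hM hmax.1.1 c1 (a.1.mul_mem hD.mem ht))⟩
  have h3 := dvd_of_sys hM hB hS ε fun i η hη => by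
    fin_cases i
    · exact W_zero hx (by simp only [ex]; exact_mod_cast e2) hη
    · exact W_zero hz (by simp only [ev_zero]; exact_mod_cast e1) hη
    · exact W_zero hc (by simp only [ev_zero]; exact_mod_cast e3) hη
  rw [e4, ← defect_add_eq χ₀.2 (mem_htZero.1 h0), blockDefect_eq hM hmax hD] at h3
  have h4 : 2 ^ ((charDegree ((χ₀ : IrrCharacter G) : G → ℂ)).factorization 2 + 1) ∣ charDegree ((χ₀ : IrrCharacter G) : G → ℂ) :=
    Nat.dvd_of_mul_dvd_mul_left (show 0 < 4 by decide) (by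
      rw [show ∀ n, 4 * 2 ^ (n + 1) = 2 ^ (1 + 2 + n) from fun n => by ring]
      exact_mod_cast h3)
  exact Nat.pow_succ_factorization_not_dvd (charDegree_ne_zero _) Nat.prime_two h4

/-- an involution whose block does not have defect two is fused to the centre -/
theorem fus_of_ne (hM : IsPModular 2 M) (hmax : IsMaximalBrauerPair 2 M B a.1 a.2) (hD : IsDih a.1 x 1) (ht : t ∈ a.1)
    (htx : t ∉ zpowers x) (h : blockDefect 2 (bel 2 M a t).2 ≠ 2) : Fus 2 M a t (x ^ 2 ^ 1) := by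
  have : Fact (Nat.Prime 2) := ⟨Nat.prime_two⟩
  have t1 : t ≠ 1 := fun e => htx (e ▸ one_mem _)
  have t2 : orderOf t = 2 := orderOf_eq_prime ((pow_two t).trans (hD.sq t ht htx)) t1
  obtain ⟨v, v1, v2, v3⟩ := exists_fus_defect hM hmax ht
  have h1 := two_pow_le hM hmax hD ht
  have h2 := card_le_defect hM hmax ht
  have h3 : 2 < Nat.card (a.1 ⊓ centralizer ((zpowers t : Subgroup G) : Set G) : Subgroup G) := by
    rw [centralizer_zpowers]
    exact (Set.two_lt_ncard_iff (Set.toFinite _)).2 ⟨1, x ^ 2 ^ 1, t, one_mem _,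
      ⟨hD.z_mem, mem_centralizer_singleton_iff.2 (hD.z_comm ht).symm⟩, ⟨ht, mem_centralizer_singleton_iff.2 rfl⟩, hD.z_ne.symm,
      t1.symm, fun e => htx (e ▸ hD.z_mem')⟩
  have h4 : blockDefect 2 (bel 2 M a t).2 = 3 := by
    generalize blockDefect 2 (bel 2 M a t).2 = n at h h1 h2
    have h5 : n < 4 := (Nat.pow_lt_pow_iff_right one_lt_two).1 (by omega)
    interval_cases n <;> omega
  rw [h4, centralizer_zpowers] at v3
  have h5 : a.1 ⊓ centralizer {v} = a.1 := eq_of_le_of_card_ge inf_le_left (by rw [← v3, hD.card])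
  have h6 : v ∈ zpowers x := hD.mem_of_comm (mem_zpowers x) (fun e => by
    have := orderOf_dvd_of_pow_eq_one ((pow_two x).trans e)
    rw [hD.ord] at this
    exact absurd this (by decide)) v1 (mem_centralizer_singleton_iff.1 (h5.ge hD.mem).2).symm
  have h7 : orderOf v = 2 := v2.orderOf_eq.symm.trans t2
  rcases hD.eq_of_sq h6 ((pow_two v).symm.trans (h7 ▸ pow_orderOf_eq_one v)) with e | e
  · rw [e, orderOf_one] at h7
    cases h7
  · exact e ▸ v2

end Cfsg.Agent.BZ.X.O7H
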