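import Cfsg.Agent.BZ.X.Defs
import Cfsg.Agent.RC.X.FU

/-!
# BZ, the exceptional covers: large toral subgroups make the local data `RegTriv` (helper30)

* `rt_of_two`, `rt_key`, `rt_of_tor` : the lemmas of `RC.X.Loc` with the conclusion `RegTriv`;
* `dic` : a normal abelian subgroup of order divisible by `p ^ n`, or a non-abelian subgroup of order `p ^ n`;
* `rb_allT`, `rb_one` : the rows for `G ^ F`.
-/

set_option autoImplicit false
set_option linter.unusedSectionVars false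
set_option maxHeartbeats 200000

namespace Cfsg.Agent.BZ.X.R1

open Cfsg Cfsg.Agent.DL Cfsg.Agent.DL.Asm Subgroup Cfsg.Agent.BHZ.Spor Cfsg.Agent.KM Cfsg.Agent.KM.Xc Cfsg.Agent.BZ.T
open Cfsg.Agent.TO.X.Cn (Pi1)

section

variable {p : ℕ} [hp : Fact p.Prime] {S : Type} [Group S] [Finite S] {D : Subgroup S}

/-- **`{r, p}`-centralisers** -/
theorem rt_of_two {r : ℕ} (hr : r.Prime) (h : LocB p D) {A : Set S} (hA : A ⊆ D)
    (hn : ∀ d ∈ D, ∀ a ∈ A, d * a * d⁻¹ ∈ A)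
    (h1 : ∀ x ∈ centralizer A, (orderOf x).Prime → orderOf x = r ∨ orderOf x = p)
    (h2 : ∀ U : Subgroup S, IsPGroup r U → U ≤ centralizer A → (∀ x ∈ centralizer A, ∀ u ∈ U, x * u * x⁻¹ ∈ U) →
      U = ⊥) : RegTriv p D := by
  let C : Subgroup S := centralizer A
  have h3 : ∀ s : ℕ, s.Prime → s ∣ Nat.card C → s = r ∨ s = p := fun s hs hd => by
    have : Fact s.Prime := ⟨hs⟩
    obtain ⟨x, hx⟩ := exists_prime_orderOf_dvd_card' s hd
    rw [← Subgroup.orderOf_coe] at hx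
    exact hx ▸ h1 x x.2 (hx ▸ hs)
  obtain ⟨a, b, e⟩ := exists_two Nat.card_pos.ne' h3
  have hs : Group.IsSolvable C := S0144.result r p a b hr hp.out e
  have hnorm : ∀ K : Subgroup C, K.Normal → ∀ x ∈ C, ∀ u ∈ K.map C.subtype, x * u * x⁻¹ ∈ K.map C.subtype := by
    rintro K hK x hx _ ⟨u, hu, rfl⟩
    exact ⟨_, hK.conj_mem u hu ⟨x, hx⟩, rfl⟩
  have h4 : pPrimeCore p C = ⊥ := by
    have h5 := Lib.Cores.pPrimeCore_coprime (G := C) p
    obtain ⟨i, j, e'⟩ := exists_two (p := r) (l := r) (n := Nat.card (pPrimeCore p C)) Nat.card_pos.ne'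
      fun s hs hd => Or.inl ((h3 s hs (hd.trans (card_subgroup_dvd_card _))).resolve_right fun h6 =>
        hs.one_lt.ne' (Nat.eq_one_of_dvd_coprimes h5 hd (h6 ▸ dvd_rfl)))
    rw [← pow_add] at e'
    exact (map_eq_bot_iff_of_injective _ (subtype_injective C)).1 (h2 _ ((IsPGroup.of_card e').map C.subtype)
      (map_subtype_le _) (hnorm _ (Lib.Cores.pPrimeCore_normal p)))
  have h5 := S0017.result p h4
  have hD : ∀ x : S, (∀ d ∈ D, Commute d x) → x ∈ C := fun x hx => mem_centralizer_iff.2 fun d hd => hx d (hA hd)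
  have h6 := h.core _ ((Lib.Cores.pCore_isPGroup p).map C.subtype) (fun d hd _ ⟨w, hw, e⟩ => e ▸
    ⟨_, (characteristic_iff_map_le.1 (Lib.Cores.pCore_characteristic (G := C) p)) (C.normalizerMonoidHom
      ⟨d, mem_normalizer_fintype fun c hc a ha => by
        have h7 := hc _ (hn d⁻¹ (inv_mem hd) a ha)
        calc _ = d * (d⁻¹ * a * d⁻¹⁻¹ * c) * d⁻¹ := by group
          _ = _ := by rw [h7]; group⟩) ⟨w, hw, rfl⟩, rfl⟩)
    fun x hx => hnorm _ (Lib.Cores.pCore_normal p) x (hD x hx)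
  intro g hgD hg
  obtain ⟨j, hj⟩ := pelt_of_mem (Lib.Cores.pCore_isPGroup p) (show (⟨g, hD g hgD⟩ : C) ∈ pCore p C from
    h5 (mem_centralizer_iff.2 fun u hu => Subtype.ext (hgD u (h6 ⟨u, hu, rfl⟩))))
  exact eq_one_of_reg hg (congrArg Subtype.val hj)

/-- a large normal abelian subgroup, or a non-abelian subgroup -/
theorem dic (hD : IsPGroup p D) {n : ℕ} (h : p ^ n ∣ Nat.card D) :
    (∃ E ≤ D, (∀ a ∈ E, ∀ b ∈ E, a * b = b * a) ∧ (∀ g ∈ D, ∀ a ∈ E, g * a * g⁻¹ ∈ E) ∧ p ^ n ∣ Nat.card E) ∨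
      ∃ E ≤ D, Nat.card E = p ^ n ∧ ¬ IsMulCommutative E := by
  have := hD.isNilpotent
  obtain ⟨A, h1, h2, h3⟩ := Lib.NormalAbelian.exists_normal_abelian_selfCentralizing (G := D)
  by_cases h4 : p ^ n ∣ Nat.card A
  · refine .inl ⟨A.map D.subtype, map_subtype_le _, ?_, ?_, by rwa [card_map_of_injective (subtype_injective D)]⟩
    · rintro _ ⟨a, ha, rfl⟩ _ ⟨b, hb, rfl⟩
      exact congrArg Subtype.val (forall_of_comm h2 a ha b hb)
    · rintro g hg _ ⟨a, ha, rfl⟩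
      exact ⟨_, h1.conj_mem a ha ⟨g, hg⟩, rfl⟩
  obtain ⟨k, hk⟩ := (hD.to_subgroup A).exists_card_eq
  obtain ⟨E, h5, h6⟩ := Sylow.exists_subgroup_card_pow_prime_le p h A hk
    (not_lt.1 fun e => h4 (hk ▸ pow_dvd_pow p e.le))
  refine .inr ⟨E.map D.subtype, map_subtype_le _, by rwa [card_map_of_injective (subtype_injective D)], fun e => h4 ?_⟩
  rw [← h5]
  refine card_dvd_of_le (h3 ▸ fun x hx a ha => Subtype.ext ?_)
  exact forall_of_comm e _ ⟨a, h6 ha, rfl⟩ _ ⟨x, hx, rfl⟩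

theorem exists_sq (hD : IsPGroup p D) (h : p ^ 2 ∣ Nat.card D) :
    ∃ E ≤ D, (∀ a ∈ E, ∀ b ∈ E, a * b = b * a) ∧ (∀ g ∈ D, ∀ a ∈ E, g * a * g⁻¹ ∈ E) ∧ p ^ 2 ∣ Nat.card E :=
  (dic hD h).resolve_right fun ⟨_, _, h1, h2⟩ => h2 (IsPGroup.isMulCommutative_of_card_eq_prime_sq h1)

end

variable {p : ℕ} [Fact p.Prime] {k : Type} [Field k] [CharP k p] {Y : Type} [Group Y] {N : Type} [Fintype N]
  [DecidableEq N] {ρ : Y →* GL N k} {F : MulAut Y} {G : Subgroup Y} [IsAlgClosed k]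
  {S : Type} [Group S] (c : Cv p F G S) (X : Datum p ρ F G) {l : ℕ} [hl : Fact l.Prime]

/-- **The key lemma.** -/
theorem rt_key (hlp : l ≠ p) {D : Subgroup S} (h : LocB l D)
    {Z : Set c.H0} (hT : ∀ z ∈ Z, (z : Y) ∈ X.T) (he : ∀ z ∈ Z, ∃ j : ℕ, z ^ l ^ j = 1) (hD : ∀ z ∈ Z, c.π z ∈ D)
    (hn : ∀ d ∈ D, ∀ a ∈ c.π '' Z, d * a * d⁻¹ ∈ c.π '' Z) (ns : c.NS l (Subtype.val '' Z)) : RegTriv l D := by
  have := c.fin X
  have : Finite S := Finite.of_surjective _ c.surj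
  have hp : p.Prime := Fact.out
  have hZ : Subtype.val '' Z ⊆ X.T := by
    rintro _ ⟨z, hz, rfl⟩
    exact hT z hz
  have hcm : ∀ (a : c.H0) (s j : ℕ), s.Prime → s ≠ l → a ^ s ^ j = 1 → c.π a ∈ centralizer (c.π '' Z) →
      (a : Y) ∈ centralizer (Subtype.val '' Z) := fun a s j hs hsl hj ha => by
    refine mem_centralizer_iff.2 ?_
    rintro _ ⟨z, hz, rfl⟩
    obtain ⟨i, hi⟩ := he z hz
    refine congrArg Subtype.val (commute_p_reg c.ker (mem_centralizer_iff.1 ha _ ⟨z, hz, rfl⟩) hi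
      (not_dvd_of_pow (fun h1 => ?_) hj))
    exact hsl ((Nat.prime_dvd_prime_iff_eq hl.out hs).1 (hl.out.dvd_of_dvd_pow h1)).symm
  refine rt_of_two hp h (A := c.π '' Z) (by rintro _ ⟨z, hz, rfl⟩; exact hD z hz) hn (fun x hx ho => ?_)
    fun U hU hUC hn => ?_
  · by_contra h1
    rw [not_or] at h1
    have : Fact (orderOf x).Prime := ⟨ho⟩
    obtain ⟨a, rfl, j, hj⟩ := exists_p_lift (p := orderOf x) c.surj (x := x) (k := 1)
      (by rw [pow_one, pow_orderOf_eq_one])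
    have h2 := ns a a.2 _ j ho h1.1 h1.2 (congrArg Subtype.val hj) (hcm a _ j ho h1.2 hj hx)
    rw [show a = 1 from Subtype.ext h2, map_one, orderOf_one] at ho
    exact Nat.not_prime_one ho
  · obtain ⟨V, hV, hm⟩ := exists_plift (p := p) c.ker hU
    have hF : ∀ z ∈ Subtype.val '' Z, F z ∈ Subtype.val '' Z := by
      rintro _ ⟨z, hz, rfl⟩
      rw [(mem_GF.1 (c.le z.2)).2]
      exact ⟨z, hz, rfl⟩
    have h1 := eq_bot_of_norm (X.sub hZ (fun _ => X.g_mem_Sz hZ hF) rfl) (V := V.map c.H0.subtype) ?_ (hV.map _) ?_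
    · refine eq_bot_iff.2 fun u hu => ?_
      obtain ⟨j, hj⟩ := pelt_of_mem hU hu
      obtain ⟨a, rfl, ha⟩ := exists_p_lift c.surj hj
      have h2 : (a : Y) ∈ V.map c.H0.subtype := ⟨a, (hm a).2 ⟨hu, ha⟩, rfl⟩
      rw [h1] at h2
      rw [show a = 1 from Subtype.ext h2, map_one]
      exact one_mem _
    · rintro _ ⟨a, ha, rfl⟩
      obtain ⟨h2, j, hj⟩ := (hm a).1 ha
      refine ⟨X.mem_cen_of_pow hZ (c.le a.2).1 (hcm a p j hp hlp.symm hj (hUC h2)) (j := j) ?_, (c.le a.2).2⟩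
      rw [show (c.H0.subtype a) ^ p ^ j = 1 from congrArg Subtype.val hj]
      exact one_mem _
    · rintro u hu hj _ ⟨a, ha, rfl⟩
      have hu0 : u ∈ c.H0 := c.uni u ⟨X.cen_le_G _ hu.1, hu.2⟩ hj
      obtain ⟨h2, j, h3⟩ := (hm a).1 ha
      refine ⟨⟨u, hu0⟩ * a * (⟨u, hu0⟩ : c.H0)⁻¹, (hm _).2 ⟨?_, j, by rw [conj_pow, h3]; simp⟩, rfl⟩
      rw [map_mul, map_mul, map_inv]
      refine hn _ (mem_centralizer_iff.2 ?_) _ h2
      rintro _ ⟨z, hz, rfl⟩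
      rw [← map_mul, ← map_mul]
      exact congrArg c.π (Subtype.ext (mem_centralizer_iff.1 (X.cen_le_centralizer hZ hu.1) _ ⟨z, hz, rfl⟩))

/-- **a large toral subgroup** -/
theorem rt_of_tor (hlp : l ≠ p) {D : Subgroup S} (h : LocB l D) {m : ℕ} (hb : c.TB X l m) {E : Subgroup c.H0}
    (hE : IsPGroup l E) (hm : m ∣ Nat.card E) (hD : E ≤ D.comap c.π) (hn : ∀ g ∈ D.comap c.π, ∀ a ∈ E, g * a * g⁻¹ ∈ E)
    {T : Subgroup Y} (hT : T ∈ tori X) (hle : ∀ z ∈ E, (z : Y) ∈ T) : RegTriv l D := by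
  obtain ⟨y, hy, rfl, h1⟩ := hT
  have hN := (X.stable_iff hy).1 h1
  refine rt_key c (X.conj hy hN) hlp h (Z := E) hle (fun z hz => pelt_of_mem hE hz) hD (RC.X.norm_im c hn)
    (c.ns_of_tb (X.conj hy hN) ?_ hE hm hle)
  intro T hT
  rw [X.tori_conj] at hT
  exact hb T hT

/-- all abelian subgroups are toral -/
theorem rb_allT (hlp : l ≠ p) (hA : AllT X l) {d : ℕ} (hb : (Cv.ofEquiv (MulEquiv.refl ↥(GF F G))).TB X l (l ^ d))
    (h : ∀ E : Subgroup ↥(GF F G), Nat.card E = l ^ d → ¬ IsMulCommutative E → RegTriv l E) : RB l d ↥(GF F G) :=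
  fun D H h1 => by
    have := X.amb.finite_GF G
    obtain ⟨E, h2, h3, h4, h5⟩ | ⟨E, h2, h3, h4⟩ := dic H.pg h1
    · obtain ⟨T, h6, h7⟩ := hA (E.map (GF F G).subtype) (map_subtype_le _) ((H.pg.to_le h2).map _) (by
        rintro _ ⟨a, ha, rfl⟩ _ ⟨b, hb, rfl⟩
        exact congrArg Subtype.val (h3 a ha b hb))
      exact rt_of_tor (Cv.ofEquiv (MulEquiv.refl ↥(GF F G))) X hlp H hb (E := E) (H.pg.to_le h2) h5 h2 h4 h6
        fun z hz => h7 ⟨z, hz, rfl⟩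
    · exact (h E h3 h4).mono h2

/-- a bad prime -/
theorem rb_one {f : ℕ} (h0 : Pi1 X f) (hlp : l ≠ p) (hf : l.Coprime f) (hL : Ex.NL X l) (hT : Ex.Two X l) {d : ℕ}
    (hb : (Cv.ofEquiv (MulEquiv.refl ↥(GF F G))).TB X l (l ^ d))
    (h : ∀ E : Subgroup ↥(GF F G), Nat.card E = l ^ d → ¬ IsMulCommutative E → RegTriv l E) : RB l d ↥(GF F G) :=
  fun D H h1 => by
    have := X.amb.finite_GF G
    obtain ⟨E, h2, h3, h4, h5⟩ | ⟨E, h2, h3, h4⟩ := dic H.pg h1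
    · intro s s2 s1
      by_contra s3
      obtain ⟨T, h6, h7⟩ := RC.X.tor_of_reg h0 hlp hf hL hT (H.pg.to_le h2) h3 s1 (fun d hd => s2 d (h2 hd)) s3
      exact s3 (rt_of_tor (Cv.ofEquiv (MulEquiv.refl ↥(GF F G))) X hlp H hb (E := E) (H.pg.to_le h2) h5 h2 h4 h6 h7 s s2 s1)
    · exact (h E h3 h4).mono h2

end Cfsg.Agent.BZ.X.R1
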